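import Cfsg.Agent.Lib.NormalThree79.Gamma
import Cfsg.Agent.Lib.BrauerPairs.CentralRank
import Cfsg.Agent.Lib.BrauerPairs.NormalCover
import Cfsg.Agent.Lib.BrauerPairs.Lift
import Cfsg.Agent.Lib.BrauerPairs.SubsectionCount
import Cfsg.Agent.Lib.BC77.FongBlocks
import Cfsg.Agent.S4607
import Cfsg.Agent.S4633
import Cfsg.Agent.S4648
import Cfsg.Agent.S4978

/-!
# Blocks with a normal abelian defect group and at most three characters

`card_le_three`: such a defect group has order at most three.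
-/

set_option autoImplicit false
set_option linter.style.haveILetI false
set_option linter.unusedSectionVars false

namespace Cfsg.Agent.Lib.NormalThree79.Block

open scoped ComplexConjugate
open MonoidAlgebra Cfsg.Agent.Lib Cfsg.Agent.Lib.BrauerMap.Basic
open Cfsg.Agent.Lib.BrauerPairs.Center Cfsg.Agent.Lib.BrauerPairs.Trunc
open Cfsg.Agent.Lib.BrauerPairs.Conj Cfsg.Agent.Lib.BrauerPairs.Pairs
open Cfsg.Agent.Lib.BrauerPairs.Transport Cfsg.Agent.Lib.BrauerPairs.Maximal
open Cfsg.Agent.Lib.BrauerPairs.Bridge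
open Cfsg.Agent.Lib.BrauerPairs.SubsectionCount Cfsg.Agent.Lib.BrauerPairs.RankAbelian
open Cfsg.Agent.Lib.Characters Cfsg.Agent.Lib.Characters.Basic
open Cfsg.Agent.Lib.BrauerMap.Normal

universe u

attribute [local instance] Ideal.Quotient.field

section Covering

variable {k : Type*} [Field k] [IsAlgClosed k] {G : Type u} [Group G] [Finite G]
variable {p : ℕ} [Fact p.Prime] [CharP k p]

/-- A block covers a block of the centraliser of a normal `p`-subgroup exactly when it is the
block of that pair. -/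
theorem covers_iff_pairOf {A : Subgroup G} [A.Normal] (hA : IsPGroup p A)
    [(Subgroup.centralizer (A : Set G)).Normal]
    (φ : Blk k G) (c : Blk k (Subgroup.centralizer (A : Set G))) :
    BrauerPairs.NormalCover.Covers (Subgroup.centralizer (A : Set G)) φ c ↔
      PairOf p φ (⟨A, c⟩ : Idx k G) := by
  have hfix : IsFixedBy (Subgroup.centralizer (A : Set G)) (bidem φ) :=
    isFixedBy_of_mem_center _ (bidem_mem φ)
  set z : ZAlg k (Subgroup.centralizer (A : Set G)) :=
    ⟨br A (bidem φ), br_mem_center hfix⟩ with hz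
  have hzi : IsIdempotentElem z :=
    Subtype.ext (br_isIdem hA (bidem_isIdem φ) (isFixedBy_of_mem_center _ (bidem_mem φ))).eq
  have hval : val A c (bidem φ) = c z := val_eq c hfix
  have hmul : bidem φ * bext (Subgroup.centralizer (A : Set G)) c =
      ext (Subgroup.centralizer (A : Set G))
        ((z * idem c : ZAlg k (Subgroup.centralizer (A : Set G))) :
          MonoidAlgebra k (Subgroup.centralizer (A : Set G))) := by
    conv_lhs => rw [BrauerPairs.Lift.bidem_eq_ext_br hA φ]
    exact (map_mul (ext (Subgroup.centralizer (A : Set G))) _ _).symm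
  constructor
  · intro h
    refine ⟨hA, ?_⟩
    show val A c (bidem φ) = 1
    rw [hval]
    refine (apply_zero_or_one hzi c).resolve_left fun h0 => h ?_
    rw [hmul, show z * idem c = 0 from idem_ext (k := k) (hzi.mul (idem_isIdem c)) .zero fun χ => by
      rw [map_mul, map_zero]
      by_cases hχ : χ = c
      · rw [hχ, h0, zero_mul]
      · rw [apply_idem_ne hχ, mul_zero]]
    simp
  · intro h h0
    have h1 : c z = 1 := hval.symm.trans h.2
    rw [hmul, mul_idem_eq c hzi h1] at h0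
    exact idem_ne_zero c (Subtype.ext (ext_injective _ (h0.trans (map_zero _).symm)))

end Covering

variable {M : Ideal Cfsg.AlgInt} [M.IsMaximal] {p : ℕ} [Fact p.Prime]

/-- Only one character of a block with central defect group is trivial on it. -/
theorem unique_trivial {G : Type u} [Group G] [Finite G] (hM : Cfsg.IsPModular p M)
    {B : Set (Cfsg.IrrCharacter G)} (hB : Cfsg.IsPBlock M B) {Z : Subgroup G}
    (hD : Cfsg.IsDefectGroup p M B Z) (hZ : Z ≤ Subgroup.center G) {θ ψ : Cfsg.IrrCharacter G}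
    (hθ : θ ∈ B) (hθk : Z ≤ BlocksChars5.Basic.charKer θ) (hψ : ψ ∈ B)
    (hψk : Z ≤ BlocksChars5.Basic.charKer ψ) : ψ = θ := by
  classical
  haveI := Fintype.ofFinite G
  haveI := Fintype.ofFinite Z
  obtain ⟨hθ0, hθeq⟩ := BrauerPairs.CentralRank.avgReg_eq hM hB hD hZ hθ hθk
  by_contra hne
  have h1 : Cfsg.classInner (θ : G → ℂ) ψ = 0 := classInner_irr_of_ne (Ne.symm hne)
  rw [← hθeq, BrauerPairs.CentralRank.classInner_avgReg hZ _ ψ hψk,
    Blocks.Contrib.regSum_eq_contribN] at h1
  refine Blocks.Contrib.contribN_ne_zero hM hB hθ hθ0 hψ ?_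
  have hG : (Nat.card G : ℂ) ≠ 0 := Nat.cast_ne_zero.mpr Nat.card_pos.ne'
  have hZ0 : (Nat.card Z : ℂ) ≠ 0 := Nat.cast_ne_zero.mpr Nat.card_pos.ne'
  have hm : (Blocks.Contrib.primeToCard p G : ℂ) ≠ 0 :=
    Nat.cast_ne_zero.mpr (Blocks.Contrib.primeToCard_pos p).ne'
  simpa [hG, hZ0, hm] using h1

/-- A 2-block of defect at least two has at least four characters of height zero. -/
theorem four_le_card {G : Type u} [Group G] [Finite G] (hM : Cfsg.IsPModular 2 M)
    [Fact (Nat.Prime 2)] {B : Set (Cfsg.IrrCharacter G)} (hB : Cfsg.IsPBlock M B)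
    (hd : 2 ≤ Cfsg.blockDefect 2 B) :
    4 ≤ Nat.card {χ : Cfsg.IrrCharacter G // χ ∈ B ∧ Cfsg.blockHeight 2 B (χ : G → ℂ) = 0} := by
  classical
  haveI := Fintype.ofFinite G
  haveI := Fintype.ofFinite {χ : Cfsg.IrrCharacter G //
    χ ∈ B ∧ Cfsg.blockHeight 2 B (χ : G → ℂ) = 0}
  obtain ⟨χ₁, nn, -, hunit, hdvd⟩ := Cfsg.Agent.S4978.sum_sq_congr hM hB hd le_rfl
  have hall : ∀ x : {χ : Cfsg.IrrCharacter G // χ ∈ B ∧ Cfsg.blockHeight 2 B (χ : G → ℂ) = 0},
      (nn x.1 : ZMod 4) ^ 2 = 1 := by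
    intro x
    obtain ⟨j, hj⟩ := Int.not_even_iff_odd.mp
      (fun he => hunit _ x.2.1 x.2.2 (by exact_mod_cast even_iff_two_dvd.mp he))
    rw [hj]
    push_cast
    generalize (j : ZMod 4) = t
    revert t
    decide
  norm_num at hdvd
  have h4 : ((∑ x : {χ : Cfsg.IrrCharacter G // χ ∈ B ∧
      Cfsg.blockHeight 2 B (χ : G → ℂ) = 0}, nn x.1 ^ 2 : ℤ) : ZMod 4) = 0 :=
    (ZMod.intCast_zmod_eq_zero_iff_dvd _ 4).mpr hdvd
  push_cast at h4
  rw [Finset.sum_congr rfl fun x _ => hall x, Finset.sum_const, Finset.card_univ, nsmul_one] at h4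
  rw [Nat.card_eq_fintype_card]
  refine Nat.le_of_dvd ?_ ((ZMod.natCast_eq_zero_iff _ 4).mp h4)
  obtain ⟨χ, hχ, h0⟩ := Blocks.Contrib.exists_height_zero (p := 2) hB
  exact Fintype.card_pos_iff.mpr ⟨⟨χ, hχ, (Blocks.Contrib.blockHeight_eq_zero_iff hχ).mpr h0⟩⟩

variable {H : Type u} [Group H] [Fintype H]

theorem classInner_comp_equiv {X Y : Type*} [Group X] [Group Y] [Fintype X] [Fintype Y]
    (e : X ≃* Y) (f g : Y → ℂ) :
    Cfsg.classInner (fun x => f (e x)) (fun x => g (e x)) = Cfsg.classInner f g := by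
  rw [Cfsg.classInner, Cfsg.classInner, Nat.card_congr e.toEquiv]
  congr 1
  exact Fintype.sum_equiv e.toEquiv _ _ fun x => rfl

/-- The case of three characters, two of them modular. -/
theorem card_le_three_of_rank_two (hM : Cfsg.IsPModular p M) (hp2 : p ≠ 2)
    {b : Set (Cfsg.IrrCharacter H)} (hb : Cfsg.IsPBlock M b) {A : Subgroup H} [A.Normal]
    (hD : Cfsg.IsDefectGroup p M b A) (hab : ∀ x ∈ A, ∀ y ∈ A, x * y = y * x)
    (hk : Nat.card b = 3) (hl : Cfsg.blockRank p b = 2) : Nat.card A ≤ 3 := by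
  classical
  haveI : CharP (Res M) p := charP_res hM
  have hp : p.Prime := Fact.out
  have hDf := (isDefectGroup_iff hb A).mp hD
  have hA : IsPGroup p A := hDf.isPGroup
  obtain ⟨c, hc⟩ := exists_pairOf_isDef hDf
  have htop : Top p (⟨A, c⟩ : Idx (Res M) H) := top_of_isDef hc hDf
  haveI : (Subgroup.centralizer (A : Set H)).Normal := inferInstance
  have hAC : A ≤ (Subgroup.centralizer (A : Set H)) := fun x hx => Subgroup.mem_centralizer_iff.mpr fun y hy => hab y hy x hx
  set T := BrauerPairs.Local.stab (⟨A, c⟩ : Idx (Res M) H) with hTdef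
  have hCT : (Subgroup.centralizer (A : Set H)) ≤ T := BrauerPairs.Local.centralizer_le_stab (⟨A, c⟩ : Idx (Res M) H)
  have hTN : T ≤ Subgroup.normalizer (A : Set H) :=
    BrauerPairs.Local.stab_le_normalizer (⟨A, c⟩ : Idx (Res M) H)
  -- transitivity
  obtain ⟨R, hR⟩ := exists_orbitReps (p := p) (⟨A, c⟩ : Idx (Res M) H)
  have hcount := card_eq hM htop hc hab hR
  rw [toSet_blk hb, hk, hl] at hcount
  have hRle : R.card ≤ 1 := by
    have h1 : R.card ≤ ∑ r ∈ R.attach,
        Cfsg.blockRank p (toSet (localBlk c htop.1 hab (hR.mem r.1 r.2))) := by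
      rw [← Finset.card_attach, Finset.card_eq_sum_ones]
      exact Finset.sum_le_sum fun r _ => one_le_blockRank hM (isPBlock_toSet _)
    omega
  have htr : ∀ u ∈ A, ∀ v ∈ A, u ≠ 1 → v ≠ 1 → ∃ g ∈ T, g * u * g⁻¹ = v := by
    intro u hu v hv hu1 hv1
    obtain ⟨r, hr, t, ht, htu⟩ := hR.exists_conj u hu hu1
    obtain ⟨s, hs, t', ht', htv⟩ := hR.exists_conj v hv hv1
    obtain rfl := Finset.card_le_one.mp hRle r hr s hs
    refine ⟨t'⁻¹ * t, mul_mem (inv_mem ht') ht, ?_⟩
    calc t'⁻¹ * t * u * (t'⁻¹ * t)⁻¹ = t'⁻¹ * (t * u * t⁻¹) * t' := by group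
      _ = t'⁻¹ * (t' * v * t'⁻¹) * t' := by rw [htu, htv]
      _ = v := by group
  -- the covered block
  set cs : Set (Cfsg.IrrCharacter (Subgroup.centralizer (A : Set H))) := toSet c with hcsdef
  have hcs : Cfsg.IsPBlock M cs := isPBlock_toSet c
  have hblk : blk hcs = c := blk_toSet c hcs
  have hcov : BrauerPairs.NormalCover.Covers (Subgroup.centralizer (A : Set H)) (blk hb) c := (covers_iff_pairOf hA _ c).mpr hc
  have hdefC : Cfsg.IsDefectGroup p M cs (A.subgroupOf (Subgroup.centralizer (A : Set H))) := by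
    rw [isDefectGroup_iff hcs, hblk]
    obtain ⟨g, hg⟩ : ∃ g : (Subgroup.centralizer (A : Set H)), (bidem c).coeff g ≠ 0 := by
      by_contra h
      push Not at h
      exact idem_ne_zero c (Subtype.ext (MonoidAlgebra.ext (Finsupp.ext h)))
    have := BrauerPairs.NormalCover.isDef_inf (Subgroup.centralizer (A : Set H)) hcov hDf (g := g) g.2 hg
    rwa [inf_eq_left.mpr hAC] at this
  have hcen : A.subgroupOf (Subgroup.centralizer (A : Set H)) ≤ Subgroup.center (Subgroup.centralizer (A : Set H)) := fun x hx =>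
    Subgroup.mem_center_iff.mpr fun g =>
      Subtype.ext ((Subgroup.mem_centralizer_iff.mp g.2 (x : H) hx).symm)
  obtain ⟨θ, hθ, hθk, -⟩ := BrauerPairs.CentralRank.exists_scalar hM hcs hdefC hcen
  obtain ⟨η, hη, hηne⟩ : ∃ η ∈ cs, η ≠ θ := by
    by_contra h
    push Not at h
    have h1 : Nat.card cs = 1 := by
      rw [Nat.card_coe_set_eq, Set.ncard_eq_one]
      exact ⟨θ, Set.eq_singleton_iff_unique_mem.mpr ⟨hθ, h⟩⟩
    have hd0 := (Blocks.Contrib.card_eq_one_iff hM hcs).mp h1
    have hcardA := Blocks.card_isDefectGroup hM hcs hdefC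
    rw [hd0, pow_zero, Nat.card_congr (Subgroup.subgroupOfEquivOfLe hAC).toEquiv] at hcardA
    have hb1 := Blocks.card_isDefectGroup hM hb hD
    rw [hcardA] at hb1
    have : Cfsg.blockDefect p b = 0 :=
      (Nat.pow_eq_one.mp hb1.symm).resolve_left hp.ne_one
    have := (Blocks.Contrib.card_eq_one_iff hM hb).mpr this
    omega
  -- the stabiliser
  have hpush : ∀ (g : H) (ξ : Cfsg.IrrCharacter (Subgroup.centralizer (A : Set H))), conjIrr (Subgroup.centralizer (A : Set H)) g ξ =
      pushIrr (conjEquiv g⁻¹ (Subgroup.centralizer (A : Set H)) (Subgroup.centralizer (A : Set H)) (BrauerPairs.NormalCover.mem_conj_iff (Subgroup.centralizer (A : Set H)) g⁻¹)) ξ := by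
    intro g ξ
    refine Subtype.ext (funext fun n => ?_)
    rw [conjIrr_apply, pushIrr_apply]
    refine congrArg (ξ : (Subgroup.centralizer (A : Set H)) → ℂ) (Subtype.ext ?_)
    show g * (n : H) * g⁻¹ = (g⁻¹)⁻¹ * (n : H) * g⁻¹
    rw [inv_inv]
  have hconj : ∀ (g : H) (ξ : Cfsg.IrrCharacter (Subgroup.centralizer (A : Set H))), ξ ∈ cs →
      (conjIrr (Subgroup.centralizer (A : Set H)) g ξ ∈ cs ↔ g ∈ T) := by
    intro g ξ hξ
    have hξ' : blkOf M ξ = c := mem_toSet.mp hξ
    rw [hcsdef, mem_toSet, hpush, blkOf_pushIrr_conj, hξ']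
    have key : ∀ x : H, x ∈ T ↔ BrauerPairs.NormalCover.conjN (Subgroup.centralizer (A : Set H)) x c = c := by
      intro x
      rw [hTdef, BrauerPairs.Local.mem_stab_iff, and_iff_right
        (by rw [Subgroup.normalizer_eq_top]; exact Subgroup.mem_top x :
          x ∈ Subgroup.normalizer (A : Set H))]
      rw [← (bext_injective (Subgroup.centralizer (A : Set H))).eq_iff, BrauerPairs.NormalCover.bext_conjN]
    rw [← T.inv_mem_iff (x := g), key]
    exact Iff.rfl
  have hIs : BC77.Fong.IsStab (Subgroup.centralizer (A : Set H)) cs T := by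
    refine ⟨hCT, fun g hg ξ hξ => (hconj g ξ hξ).mpr hg, fun g hg ξ hξ h => hg ((hconj g ξ hξ).mp h)⟩
  -- at most three characters of the stabiliser lie over the covered block
  have hmaps : ∀ (χ : Cfsg.IrrCharacter T) (hχ : BC77.Fong.Covers (Subgroup.centralizer (A : Set H)) cs T hIs.le χ),
      BC77.Fong.up (Subgroup.centralizer (A : Set H)) cs T hIs χ hχ ∈ b := by
    intro χ hχ
    set U := BC77.Fong.up (Subgroup.centralizer (A : Set H)) cs T hIs χ hχ with hU
    have hUB : Cfsg.IsPBlock M (Cfsg.blockOf M (U : H → ℂ)) := ⟨U, rfl⟩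
    have hUmem : U ∈ Cfsg.blockOf M (U : H → ℂ) := Blocks.sameBlock_iff_omegaBar.mpr rfl
    obtain ⟨ζ, hζ, hne⟩ := BC77.Fong.exists_constituent_up (Subgroup.centralizer (A : Set H)) cs T hIs χ hχ
    have hc2 := (BrauerPairs.NormalCover.covers_iff_constituent (Subgroup.centralizer (A : Set H)) hUB hcs).mp
      ⟨U, hUmem, ζ, hζ, hne⟩
    rw [hblk] at hc2
    obtain ⟨_, e1⟩ := pairOf_iff.mp ((covers_iff_pairOf hA _ c).mp hc2)
    obtain ⟨_, e2⟩ := pairOf_iff.mp hc
    have e : blkOf M U = blk hb := by rw [blkOf_of_mem hUB hUmem, ← e1, ← e2]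
    rw [← toSet_blk hb, mem_toSet]
    exact e
  have hle3 : Nat.card {χ : Cfsg.IrrCharacter T // BC77.Fong.Covers (Subgroup.centralizer (A : Set H)) cs T hIs.le χ} ≤ 3 := by
    rw [← hk]
    exact Nat.card_le_card_of_injective (fun χ => (⟨_, hmaps χ.1 χ.2⟩ : b)) fun χ χ' h =>
      Subtype.ext (BC77.Fong.up_injective (Subgroup.centralizer (A : Set H)) cs T hIs χ'.2 χ.2 (congrArg Subtype.val h))
  -- the character of the centraliser inside the stabiliser
  set K := (Subgroup.centralizer (A : Set H)).subgroupOf T with hKdef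
  haveI : K.Normal := Subgroup.Normal.subgroupOf inferInstance T
  let e : K ≃* (Subgroup.centralizer (A : Set H)) := Subgroup.subgroupOfEquivOfLe hCT
  let θ' : Cfsg.IrrCharacter K :=
    ⟨(θ : (Subgroup.centralizer (A : Set H)) → ℂ) ∘ e, isIrrCharacter_comp e.toMonoidHom e.surjective θ.2⟩
  have hfix : ∀ t : T, conjIrr (Subgroup.centralizer (A : Set H)) (t : H) θ = θ := by
    intro t
    refine unique_trivial hM hcs hdefC hcen hθ hθk ((hconj (t : H) θ hθ).mpr t.2) fun z hz => ?_
    show (conjIrr (Subgroup.centralizer (A : Set H)) (t : H) θ : (Subgroup.centralizer (A : Set H)) → ℂ) z = (conjIrr (Subgroup.centralizer (A : Set H)) (t : H) θ : (Subgroup.centralizer (A : Set H)) → ℂ) 1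
    rw [conjIrr_apply, conjIrr_apply]
    refine Eq.trans (hθk (show (⟨(t : H) * z * (t : H)⁻¹, _⟩ : (Subgroup.centralizer (A : Set H))) ∈ A.subgroupOf (Subgroup.centralizer (A : Set H)) from ?_))
      (congrArg (θ : (Subgroup.centralizer (A : Set H)) → ℂ) (Subtype.ext (by simp)))
    exact (inferInstance : A.Normal).conj_mem (z : H) hz (t : H)
  have hinv : ∀ t : T, RelMcKay.Rel.InvAt t K (θ' : K → ℂ) := by
    intro t x y hy
    show (θ : (Subgroup.centralizer (A : Set H)) → ℂ) (e y) = (θ : (Subgroup.centralizer (A : Set H)) → ℂ) (e x)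
    conv_rhs => rw [← hfix t]
    rw [conjIrr_apply]
    exact congrArg (θ : (Subgroup.centralizer (A : Set H)) → ℂ) (Subtype.ext (congrArg Subtype.val hy :))
  have hover : ∀ χ : Cfsg.IrrCharacter T, ∀ ξ : Cfsg.IrrCharacter (Subgroup.centralizer (A : Set H)),
      Cfsg.classInner (fun n : (Subgroup.centralizer (A : Set H)) => (χ : T → ℂ) ⟨(n : H), hCT n.2⟩) (ξ : (Subgroup.centralizer (A : Set H)) → ℂ) =
        Cfsg.classInner (fun k : K => (χ : T → ℂ) k) (fun k : K => (ξ : (Subgroup.centralizer (A : Set H)) → ℂ) (e k)) := by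
    intro χ ξ
    exact (classInner_comp_equiv e (fun n : (Subgroup.centralizer (A : Set H)) => (χ : T → ℂ) ⟨(n : H), hCT n.2⟩) (ξ : (Subgroup.centralizer (A : Set H)) → ℂ)).symm
  -- a character over the other character of the covered block
  obtain ⟨χη, hχη, hnot⟩ : ∃ χ : Cfsg.IrrCharacter T, BC77.Fong.Covers (Subgroup.centralizer (A : Set H)) cs T hIs.le χ ∧
      ¬ RelMcKay.Good.Over θ' χ := by
    let η' : Cfsg.IrrCharacter K :=
      ⟨(η : (Subgroup.centralizer (A : Set H)) → ℂ) ∘ e, isIrrCharacter_comp e.toMonoidHom e.surjective η.2⟩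
    haveI := Fintype.ofFinite (Cfsg.IrrCharacter T)
    have hind1 : Cfsg.indFun K (η' : K → ℂ) 1 ≠ 0 := by
      rw [Induced.Basic.indFun_one]
      exact mul_ne_zero (Nat.cast_ne_zero.mpr Subgroup.index_ne_zero_of_finite) (apply_one_ne_zero η')
    have hsum := congrFun (Complete.classFunction_eq_sum
      (Induced.Basic.isClassFunction_indFun K (η' : K → ℂ))) 1
    rw [hsum, Finset.sum_apply] at hind1
    obtain ⟨χ, -, hχ⟩ := Finset.exists_ne_zero_of_sum_ne_zero hind1
    rw [Pi.smul_apply, smul_eq_mul, mul_ne_zero_iff,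
      Induced.Basic.frobenius_reciprocity K _ (isClassFunction_irr χ)] at hχ
    have hne : Cfsg.classInner (fun k : K => (χ : T → ℂ) k) (η' : K → ℂ) ≠ 0 := by
      intro h
      apply hχ.1
      rw [← Induced.Basic.classInner_conj_symm, h, map_zero]
    refine ⟨χ, ⟨η, hη, (hover χ η).trans_ne hne⟩, fun hov => hne ?_⟩
    have hs := Clifford.Basic.restrict_eq_smul K χ.2 θ' hov fun g => funext fun n => by
      rw [Clifford.Basic.conjC_apply]; exact hinv g n _ rfl
    rw [hs, Induced.Basic.classInner_smul_left, classInner_irr_of_ne (fun h => hηne ?_), mul_zero]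
    refine Subtype.ext (funext fun n => ?_)
    obtain ⟨k, rfl⟩ := e.surjective n
    exact (congrFun (congrArg Subtype.val h) k).symm
  have hfew : Gamma.Few θ' := by
    show Nat.card {χ : Cfsg.IrrCharacter T // RelMcKay.Good.Over θ' χ} ≤ 2
    let S := {χ : Cfsg.IrrCharacter T // BC77.Fong.Covers (Subgroup.centralizer (A : Set H)) cs T hIs.le χ}
    let f : Option {χ : Cfsg.IrrCharacter T // RelMcKay.Good.Over θ' χ} → S := fun o =>
      o.elim ⟨χη, hχη⟩ fun χ => ⟨χ.1, θ, hθ, (hover χ.1 θ).trans_ne χ.2⟩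
    have hinj : Function.Injective f := by
      rintro (_ | a) (_ | a') h
      · rfl
      · have e' : χη = a'.1 := congrArg Subtype.val h
        exact absurd (e' ▸ a'.2) hnot
      · have e' : a.1 = χη := congrArg Subtype.val h
        exact absurd (e' ▸ a.2) hnot
      · exact congrArg some (Subtype.ext (congrArg Subtype.val h :))
    have := Nat.card_le_card_of_injective f hinj
    rw [Finite.card_option] at this
    have hS : Nat.card S ≤ 3 := hle3
    omega
  -- apply the bound
  set A' := A.subgroupOf T with hA'def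
  haveI : A'.Normal := Subgroup.Normal.subgroupOf inferInstance T
  have hidx : ¬ p ∣ K.index := by
    have hfixT : ∀ u ∈ T, conjA u (bext (Subgroup.centralizer (A : Set H)) c) = bext (Subgroup.centralizer (A : Set H)) c := fun u hu =>
      (BrauerPairs.Local.mem_stab_iff.mp hu).2
    have h := Cfsg.Agent.S4633.range_not_dvd htop hAC T hTN hfixT
    have hker : (A.normalizerMonoidHom.comp (Subgroup.inclusion hTN)).ker = K := by
      rw [← MonoidHom.comap_ker, Subgroup.normalizerMonoidHom_ker]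
      rfl
    rwa [← Subgroup.index_ker, hker] at h
  have hAT : A ≤ T := hAC.trans hCT
  have key := Gamma.card_le_three (K := K) (θ := θ') hp2 A'
    (hA.of_equiv (Subgroup.subgroupOfEquivOfLe hAT).symm)
    (fun x hx y hy => Subtype.ext (hab _ hx _ hy)) (fun g => ?_) hidx ?_ hinv hfew
  · rwa [Nat.card_congr (Subgroup.subgroupOfEquivOfLe hAT).toEquiv] at key
  · rw [hKdef, Subgroup.mem_subgroupOf, Subgroup.mem_centralizer_iff]
    constructor
    · intro h a ha
      refine Subtype.ext ?_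
      show (g : H) * (a : H) * (g : H)⁻¹ = a
      rw [← h (a : H) ha, mul_inv_cancel_right]
    · intro h a ha
      have h1 : (g : H) * a * (g : H)⁻¹ = a := congrArg Subtype.val (h ⟨a, hAT ha⟩ ha)
      exact (mul_inv_eq_iff_eq_mul.mp h1).symm
  · intro u hu v hv hu1 hv1
    obtain ⟨g, hg, he⟩ := htr (u : H) hu (v : H) hv (fun h => hu1 (Subtype.ext h))
      (fun h => hv1 (Subtype.ext h))
    exact ⟨⟨g, hg⟩, Subtype.ext he⟩

/-- **A normal abelian defect group of a block with at most three characters.** -/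
theorem card_le_three (hM : Cfsg.IsPModular p M) {b : Set (Cfsg.IrrCharacter H)}
    (hb : Cfsg.IsPBlock M b) {A : Subgroup H} [A.Normal] (hD : Cfsg.IsDefectGroup p M b A)
    (hab : ∀ x ∈ A, ∀ y ∈ A, x * y = y * x) (hk : Nat.card b ≤ 3) : Nat.card A ≤ 3 := by
  classical
  have hp : p.Prime := Fact.out
  have hcard := Blocks.card_isDefectGroup hM hb hD
  rcases Nat.eq_zero_or_pos (Cfsg.blockDefect p b) with hd | hd
  · rw [hcard, hd, pow_zero]; norm_num
  have hk1 : Nat.card b ≠ 1 := fun h => hd.ne' ((Blocks.Contrib.card_eq_one_iff hM hb).mp h)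
  haveI : Nonempty b := (Blocks.isPBlock_nonempty hb).to_subtype
  have hk0 : 0 < Nat.card b := Nat.card_pos
  rcases (show Nat.card b = 2 ∨ Nat.card b = 3 by omega) with h2 | h3
  · rw [(Cfsg.Agent.S4607.result p M hM b hb A hD).mp h2]; norm_num
  by_cases hp2 : p = 2
  · subst hp2
    by_contra hgt
    have hd2 : 2 ≤ Cfsg.blockDefect 2 b := by
      by_contra h
      rw [hcard, show Cfsg.blockDefect 2 b = 1 by omega, pow_one] at hgt
      omega
    have h4 := four_le_card hM hb hd2
    have : Nat.card {χ : Cfsg.IrrCharacter H // χ ∈ b ∧ Cfsg.blockHeight 2 b (χ : H → ℂ) = 0} ≤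
        Nat.card b :=
      Nat.card_le_card_of_injective (fun χ => (⟨χ.1, χ.2.1⟩ : b)) fun χ χ' h =>
        Subtype.ext (congrArg Subtype.val h :)
    omega
  have hl1 := one_le_blockRank hM hb
  have hle : Cfsg.blockRank p b ≤ 3 := h3 ▸ Blocks.Contrib.blockRank_le
  have hl3 : Cfsg.blockRank p b ≠ 3 := fun h =>
    hd.ne' ((Blocks.Contrib.blockRank_eq_card_iff hM hb).mp (h.trans h3.symm))
  rcases (show Cfsg.blockRank p b = 1 ∨ Cfsg.blockRank p b = 2 by omega) with hl | hl
  · rw [hcard, Cfsg.Agent.S4648.card_defect hM hb hl (by omega), h3]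
  · exact card_le_three_of_rank_two hM hp2 hb hD hab h3 hl

end Cfsg.Agent.Lib.NormalThree79.Block
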