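import Cfsg.Agent.Lib.NormalThree79.Linear
import Cfsg.Agent.Lib.RelMcKay.Good

/-!
# An abelian normal `p`-subgroup with an invariant character having two characters above it

`card_le_three`: `A` is an abelian normal `p`-subgroup of `Γ`, `K` its centraliser of index prime
to `p`, `Γ` is transitive on the nontrivial elements of `A` and some invariant irreducible
character of `K` has at most two irreducible characters of `Γ` above it.  Then `|A| ≤ 3`.
-/

set_option autoImplicit false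
set_option linter.style.haveILetI false
set_option linter.unusedSectionVars false

namespace Cfsg.Agent.Lib.NormalThree79.Gamma

open scoped ComplexConjugate Classical
open Cfsg.Agent.Lib.Characters Cfsg.Agent.Lib.Characters.Basic Cfsg.Agent.Lib.Induced.Basic
open Cfsg.Agent.Lib.RelMcKay.Rel Cfsg.Agent.Lib.RelMcKay.Extend Cfsg.Agent.Lib.RelMcKay

universe u

variable {Γ : Type u} [Group Γ] [Fintype Γ] {K : Subgroup Γ} [hK : K.Normal]
  {θ : Cfsg.IrrCharacter K} (hinv : ∀ g : Γ, InvAt g K (θ : K → ℂ))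

include hinv in
/-- A class with cyclic centraliser modulo `K` carries a character over `θ`. -/
theorem supp_of_isCyclic {a : Γ ⧸ K} (h : IsCyclic (Subgroup.centralizer ({a} : Set (Γ ⧸ K)))) :
    Good.Supp θ (ConjClasses.mk a) := by
  obtain ⟨x, rfl⟩ := QuotientGroup.mk_surjective a
  rw [Good.supp_iff hinv]
  intro y hy
  obtain ⟨c, hc⟩ := h.exists_generator
  obtain ⟨u, hu⟩ := QuotientGroup.mk_surjective (c : Γ ⧸ K)
  have key : ∀ z : Γ, (z : Γ ⧸ K) ∈ Subgroup.centralizer ({(x : Γ ⧸ K)} : Set (Γ ⧸ K)) →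
      z ∈ K ⊔ Subgroup.zpowers u := by
    intro z hz
    obtain ⟨i, hi⟩ := hc ⟨_, hz⟩
    have hi' : ((u ^ i : Γ) : Γ ⧸ K) = z := by
      rw [QuotientGroup.mk_zpow, hu]
      exact congrArg Subtype.val hi
    rw [QuotientGroup.eq] at hi'
    rw [show z = u ^ i * ((u ^ i)⁻¹ * z) from (mul_inv_cancel_left _ _).symm]
    exact mul_mem (Subgroup.mem_sup_right (Subgroup.zpow_mem_zpowers u i)) (Subgroup.mem_sup_left hi')
  have hxm := key x (Subgroup.mem_centralizer_singleton_iff.mpr rfl)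
  have hym := key y (by
    rw [Subgroup.mem_centralizer_singleton_iff]
    rw [← QuotientGroup.eq_one_iff, QuotientGroup.mk_mul, QuotientGroup.mk_mul, QuotientGroup.mk_mul,
      QuotientGroup.mk_inv, QuotientGroup.mk_inv, mul_inv_eq_one, mul_inv_eq_iff_eq_mul] at hy
    exact hy)
  refine extends_mono (le_sup_left.trans le_sup_left)
    (sup_le (sup_le le_sup_left (Subgroup.zpowers_le.mpr hxm)) (Subgroup.zpowers_le.mpr hym))
    (extends_of_cyclic θ le_sup_left (le_top.trans (Good.stab_top hinv))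
      (Subgroup.mem_sup_right (Subgroup.mem_zpowers u)) le_rfl)

include hinv in
theorem supp_one : Good.Supp θ (ConjClasses.mk (1 : Γ ⧸ K)) := by
  rw [← QuotientGroup.mk_one, Good.supp_iff hinv]
  intro y _
  refine extends_mono (le_sup_left.trans le_sup_left)
    (sup_le (sup_le le_sup_left (by rw [Subgroup.zpowers_one_eq_bot]; exact bot_le)) le_sup_right)
    (extends_of_cyclic θ le_sup_left (le_top.trans (Good.stab_top hinv))
      (Subgroup.mem_sup_right (Subgroup.mem_zpowers y)) le_rfl)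

variable (θ) in
/-- The supported classes are few. -/
def Few : Prop := Nat.card {χ : Cfsg.IrrCharacter Γ // Good.Over θ χ} ≤ 2

theorem three_le_card {α : Type*} [Finite α] {a b c : α} (h1 : a ≠ b) (h2 : a ≠ c) (h3 : b ≠ c) :
    3 ≤ Nat.card α := by
  haveI := Fintype.ofFinite α
  rw [Nat.card_eq_fintype_card, Nat.succ_le_iff, Fintype.two_lt_card_iff]
  exact ⟨a, b, c, h1, h2, h3⟩

include hinv in
theorem eq_of_supp (hfew : Few θ) {a : Γ ⧸ K} (ha : a ≠ 1) (hs : Good.Supp θ (ConjClasses.mk a))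
    {c : ConjClasses (Γ ⧸ K)} (hc : Good.Supp θ c) :
    c = ConjClasses.mk 1 ∨ c = ConjClasses.mk a := by
  by_contra h
  push Not at h
  haveI : Finite (ConjClasses (Γ ⧸ K)) := Finite.of_surjective _ ConjClasses.mk_surjective
  have hne : ConjClasses.mk (1 : Γ ⧸ K) ≠ ConjClasses.mk a := fun e =>
    ha (isConj_one_right.mp (ConjClasses.mk_eq_mk_iff_isConj.mp e))
  have := three_le_card (α := {c : ConjClasses (Γ ⧸ K) // Good.Supp θ c})
    (a := ⟨_, supp_one hinv⟩) (b := ⟨_, hs⟩) (c := ⟨c, hc⟩)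
    (fun e => hne (congrArg Subtype.val e)) (fun e => h.1 (congrArg Subtype.val e).symm)
    (fun e => h.2 (congrArg Subtype.val e).symm)
  rw [← Good.card_over hinv] at this
  exact absurd this (by unfold Few at hfew; omega)

include hinv in
theorem isConj_of_isCyclic (hfew : Few θ) {a b : Γ ⧸ K} (ha : a ≠ 1) (hb : b ≠ 1)
    (hca : IsCyclic (Subgroup.centralizer ({a} : Set (Γ ⧸ K))))
    (hcb : IsCyclic (Subgroup.centralizer ({b} : Set (Γ ⧸ K)))) : IsConj a b := by
  rcases eq_of_supp hinv hfew ha (supp_of_isCyclic hinv hca) (supp_of_isCyclic hinv hcb) with h | h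
  · exact absurd (isConj_one_left.mp (ConjClasses.mk_eq_mk_iff_isConj.mp h)) hb
  · exact (ConjClasses.mk_eq_mk_iff_isConj.mp h).symm

/-- The squared absolute values of `χ` summed over a coset. -/
noncomputable def cosetSq (χ : Γ → ℂ) (q : Γ ⧸ K) : ℂ :=
  ∑ g ∈ Finset.univ.filter (fun g : Γ => (g : Γ ⧸ K) = q), χ g * conj (χ g)

theorem cosetSq_conj (χ : Cfsg.IrrCharacter Γ) (q h : Γ ⧸ K) :
    cosetSq (χ : Γ → ℂ) (h * q * h⁻¹) = cosetSq (χ : Γ → ℂ) q := by
  obtain ⟨y, rfl⟩ := QuotientGroup.mk_surjective h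
  refine (Finset.sum_equiv (MulAut.conj y).toEquiv (fun g => ?_) fun g _ => ?_).symm
  · simp only [Finset.mem_filter, Finset.mem_univ, true_and, MulEquiv.toEquiv_eq_coe,
      MulEquiv.coe_toEquiv, MulAut.conj_apply, QuotientGroup.mk_mul, QuotientGroup.mk_inv,
      mul_left_inj, mul_right_inj]
  · simp only [MulEquiv.toEquiv_eq_coe, MulEquiv.coe_toEquiv, MulAut.conj_apply,
      isClassFunction_irr χ g y]

/-- The average of `|χ|²` over a coset is an algebraic integer. -/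
theorem isIntegral_cosetSq (χ : Cfsg.IrrCharacter Γ) (q : Γ ⧸ K) :
    IsIntegral ℤ ((Nat.card K : ℂ)⁻¹ * cosetSq (χ : Γ → ℂ) q) := by
  haveI : Fintype (Γ ⧸ K) := Fintype.ofFinite _
  haveI := Fintype.ofFinite (Cfsg.IrrCharacter (Γ ⧸ K))
  let F : Γ ⧸ K → ℂ := fun q => (Nat.card K : ℂ)⁻¹ * cosetSq (χ : Γ → ℂ) q
  have hF : Cfsg.IsClassFunction (Γ ⧸ K) F := fun q h => by
    show _ * cosetSq _ _ = _ * cosetSq _ _
    rw [cosetSq_conj]
  have hcoef : ∀ β : Cfsg.IrrCharacter (Γ ⧸ K), ∃ k : ℕ, Cfsg.classInner F (β : (Γ ⧸ K) → ℂ) = k := by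
    intro β
    obtain ⟨k, hk⟩ := exists_classInner_nat
      (isCharacter_mul (isCharacter_comp (QuotientGroup.mk' K) (isCharacter_irr β)) (isCharacter_irr χ))
      (isCharacter_irr χ)
    refine ⟨k, ?_⟩
    rw [← map_natCast (starRingEnd ℂ) k, ← hk, classInner_conj_symm, Cfsg.classInner,
      Cfsg.classInner]
    simp only [F, cosetSq, Finset.mul_sum, Finset.sum_mul]
    refine Eq.trans ?_ (Finset.sum_fiberwise Finset.univ (fun g : Γ => (g : Γ ⧸ K)) _)
    refine Finset.sum_congr rfl fun q _ => Finset.sum_congr rfl fun g hg => ?_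
    have hgq : (g : Γ ⧸ K) = q := (Finset.mem_filter.mp hg).2
    have hcard : (Nat.card Γ : ℂ) = (Nat.card (Γ ⧸ K) : ℂ) * (Nat.card K : ℂ) := by
      rw [← Nat.cast_mul, ← Subgroup.card_eq_card_quotient_mul_card_subgroup]
    subst hgq
    simp only [Pi.mul_apply, Function.comp_apply, QuotientGroup.mk'_apply, map_mul]
    rw [hcard, mul_inv]
    ring
  have h := congrFun (Complete.classFunction_eq_sum hF) q
  simp only [F, Finset.sum_apply, Pi.smul_apply, smul_eq_mul] at h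
  rw [h]
  refine IsIntegral.sum _ fun β _ => IsIntegral.mul ?_ (isIntegral_apply (isCharacter_irr β) q)
  obtain ⟨k, hk⟩ := hcoef β
  rw [hk]
  exact_mod_cast (isIntegral_algebraMap (R := ℤ) (A := ℂ) (x := (k : ℤ)))

include hinv in
/-- The ratio of degrees of a character over `θ`. -/
theorem exists_ratio (χ : Cfsg.IrrCharacter Γ) (hχ : Good.Over θ χ) :
    ∃ a : ℕ, 0 < a ∧ (∀ k : K, (χ : Γ → ℂ) k = (a : ℂ) * (θ : K → ℂ) k) ∧
      Cfsg.classInner (fun k : K => (χ : Γ → ℂ) k) (θ : K → ℂ) = a := by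
  have hs := Clifford.Basic.restrict_eq_smul K χ.2 θ hχ fun g => funext fun n => by
    rw [Clifford.Basic.conjC_apply]; exact hinv g n _ rfl
  obtain ⟨a, ha⟩ := exists_classInner_nat (isCharacter_comp K.subtype (isCharacter_irr χ))
    (isCharacter_irr θ)
  replace ha : Cfsg.classInner (fun k : K => (χ : Γ → ℂ) k) (θ : K → ℂ) = (a : ℂ) := ha
  refine ⟨a, Nat.pos_of_ne_zero fun h => hχ (by rw [ha, h, Nat.cast_zero]), fun k => ?_, ha⟩
  have := congrFun hs k
  rwa [Pi.smul_apply, smul_eq_mul, ha] at this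

include hinv in
/-- The squares of the ratios add up to the index. -/
theorem sum_ratio_sq {χ₁ χ₂ : Cfsg.IrrCharacter Γ} (hne : χ₁ ≠ χ₂) (h₁ : Good.Over θ χ₁)
    (h₂ : Good.Over θ χ₂) (hall : ∀ χ, Good.Over θ χ → χ = χ₁ ∨ χ = χ₂) {a b : ℕ}
    (ha : ∀ k : K, (χ₁ : Γ → ℂ) k = (a : ℂ) * (θ : K → ℂ) k)
    (ha' : Cfsg.classInner (fun k : K => (χ₁ : Γ → ℂ) k) (θ : K → ℂ) = a)
    (hb : ∀ k : K, (χ₂ : Γ → ℂ) k = (b : ℂ) * (θ : K → ℂ) k)
    (hb' : Cfsg.classInner (fun k : K => (χ₂ : Γ → ℂ) k) (θ : K → ℂ) = b) :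
    a ^ 2 + b ^ 2 = K.index := by
  haveI := Fintype.ofFinite (Cfsg.IrrCharacter Γ)
  have h := congrFun (Complete.classFunction_eq_sum
    (isClassFunction_indFun K (θ : K → ℂ))) 1
  simp only [Finset.sum_apply, Pi.smul_apply, smul_eq_mul] at h
  have hcoef : ∀ χ : Cfsg.IrrCharacter Γ, Cfsg.classInner (Cfsg.indFun K (θ : K → ℂ)) (χ : Γ → ℂ) =
      conj (Cfsg.classInner (fun k : K => (χ : Γ → ℂ) k) (θ : K → ℂ)) := fun χ => by
    rw [frobenius_reciprocity K _ (isClassFunction_irr χ), classInner_conj_symm]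
  rw [indFun_one, ← Finset.sum_subset (Finset.subset_univ {χ₁, χ₂}), Finset.sum_pair hne, hcoef,
    hcoef, ha', hb', map_natCast, map_natCast] at h
  · have e1 : (χ₁ : Γ → ℂ) 1 = a * (θ : K → ℂ) 1 := ha 1
    have e2 : (χ₂ : Γ → ℂ) 1 = b * (θ : K → ℂ) 1 := hb 1
    rw [e1, e2] at h
    have h' : ((a ^ 2 + b ^ 2 : ℕ) : ℂ) = (K.index : ℂ) := by
      refine mul_right_cancel₀ (apply_one_ne_zero θ) ?_
      push_cast
      linear_combination -h
    exact_mod_cast h'
  · intro χ _ hχ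
    rw [hcoef, show Cfsg.classInner (fun k : K => (χ : Γ → ℂ) k) (θ : K → ℂ) = 0 from
      by_contra fun h0 => hχ (by rcases hall χ h0 with rfl | rfl <;> simp), map_zero, zero_mul]

include hinv in
/-- The norm equation of one character over `θ`. -/
theorem norm_eq (hfew : Few θ) {a : Γ ⧸ K} (ha : a ≠ 1) (hs : Good.Supp θ (ConjClasses.mk a))
    (χ : Cfsg.IrrCharacter Γ) (hχ : Good.Over θ χ) {d : ℕ}
    (hd : ∀ k : K, (χ : Γ → ℂ) k = (d : ℂ) * (θ : K → ℂ) k) {g : ℕ}
    (hg : g * Nat.card (Subgroup.centralizer ({a} : Set (Γ ⧸ K))) = K.index) :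
    (d : ℂ) ^ 2 + (g : ℂ) * ((Nat.card K : ℂ)⁻¹ * cosetSq (χ : Γ → ℂ) a) = (K.index : ℂ) := by
  haveI : Fintype (Γ ⧸ K) := Fintype.ofFinite _
  have hnorm := classInner_self_irr χ
  rw [Cfsg.classInner, ← Finset.sum_fiberwise Finset.univ (fun g : Γ => (g : Γ ⧸ K))] at hnorm
  set S := Finset.univ.filter fun q : Γ ⧸ K => IsConj a q with hS
  have h1 : (1 : Γ ⧸ K) ∉ S := fun h => ha (isConj_one_left.mp (Finset.mem_filter.mp h).2)
  have hzero : ∀ q ∈ (Finset.univ : Finset (Γ ⧸ K)), q ∉ insert 1 S → cosetSq (χ : Γ → ℂ) q = 0 := by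
    intro q _ hq
    refine Finset.sum_eq_zero fun x hx => ?_
    have hxq : (x : Γ ⧸ K) = q := (Finset.mem_filter.mp hx).2
    rw [show (χ : Γ → ℂ) x = 0 from by_contra fun h0 => by
      rcases eq_of_supp hinv hfew ha hs (c := ConjClasses.mk (x : Γ ⧸ K)) ⟨χ, hχ, x, rfl, h0⟩ with h | h
      · exact hq (Finset.mem_insert.mpr (Or.inl (hxq ▸
          isConj_one_left.mp (ConjClasses.mk_eq_mk_iff_isConj.mp h))))
      · exact hq (Finset.mem_insert.mpr (Or.inr (Finset.mem_filter.mpr ⟨Finset.mem_univ _, hxq ▸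
          (ConjClasses.mk_eq_mk_iff_isConj.mp h).symm⟩))), zero_mul]
  have hS' : ∀ q ∈ S, cosetSq (χ : Γ → ℂ) q = cosetSq (χ : Γ → ℂ) a := by
    intro q hq
    obtain ⟨h, rfl⟩ := isConj_iff.mp (Finset.mem_filter.mp hq).2
    exact cosetSq_conj χ a h
  have hScard : S.card = g := by
    refine Nat.eq_of_mul_eq_mul_right (Nat.card_pos (α := Subgroup.centralizer ({a} : Set (Γ ⧸ K)))) ?_
    rw [hg, Subgroup.index_eq_card]
    have h3 := (MulAction.stabilizer (ConjAct (Γ ⧸ K)) a).index_mul_card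
    rw [MulAction.index_stabilizer, ← Nat.card_coe_set_eq, ConjAct.stabilizer_eq_centralizer,
      Nat.card_congr (ConjAct.ofConjAct (G := Γ ⧸ K)).toEquiv] at h3
    refine Eq.trans ?_ h3
    congr 1
    rw [← Fintype.card_coe S, ← Nat.card_eq_fintype_card]
    refine Nat.card_congr (Equiv.subtypeEquivRight fun q => ?_)
    rw [hS, Finset.mem_filter, ConjAct.mem_orbit_conjAct]
    exact ⟨fun h => h.2.symm, fun h => ⟨Finset.mem_univ _, h.symm⟩⟩
  have hone : cosetSq (K := K) (χ : Γ → ℂ) 1 = (d : ℂ) ^ 2 * (Nat.card K : ℂ) := by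
    rw [cosetSq, Finset.sum_subtype (p := fun x : Γ => x ∈ K) _ (fun x => by simp)
      (fun x => (χ : Γ → ℂ) x * conj ((χ : Γ → ℂ) x))]
    simp only [hd, map_mul, map_natCast]
    have hθ := classInner_self_irr θ
    rw [Cfsg.classInner, inv_mul_eq_one₀ (subgroup_card_ne_zero K)] at hθ
    rw [hθ, Finset.mul_sum]
    refine Finset.sum_congr rfl fun k _ => ?_
    ring
  change _ * ∑ q : Γ ⧸ K, cosetSq (χ : Γ → ℂ) q = 1 at hnorm
  rw [← Finset.sum_subset (Finset.subset_univ (insert 1 S)) hzero, Finset.sum_insert h1,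
    Finset.sum_congr rfl hS', Finset.sum_const, hScard, hone, nsmul_eq_mul,
    inv_mul_eq_one₀ (by exact_mod_cast (Nat.card_pos (α := Γ)).ne')] at hnorm
  have hcard : (Nat.card Γ : ℂ) = (K.index : ℂ) * (Nat.card K : ℂ) := by
    rw [← Nat.cast_mul, K.index_mul_card]
  rw [hcard] at hnorm
  have hK0 : (Nat.card K : ℂ) ≠ 0 := subgroup_card_ne_zero K
  field_simp
  linear_combination -hnorm

include hinv in
/-- A prime centraliser order is not three modulo four. -/
theorem centralizer_mod_four (hfew : Few θ) {a : Γ ⧸ K} (ha : a ≠ 1)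
    (hc : IsCyclic (Subgroup.centralizer ({a} : Set (Γ ⧸ K))))
    (hr : (Nat.card (Subgroup.centralizer ({a} : Set (Γ ⧸ K)))).Prime) :
    Nat.card (Subgroup.centralizer ({a} : Set (Γ ⧸ K))) % 4 ≠ 3 := by
  set r := Nat.card (Subgroup.centralizer ({a} : Set (Γ ⧸ K))) with hrdef
  have hs := supp_of_isCyclic hinv hc
  haveI : Finite (ConjClasses (Γ ⧸ K)) := Finite.of_surjective _ ConjClasses.mk_surjective
  have h2 : 2 ≤ Nat.card {c : ConjClasses (Γ ⧸ K) // Good.Supp θ c} := by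
    rw [Nat.succ_le_iff, Finite.one_lt_card_iff_nontrivial]
    exact ⟨⟨⟨_, supp_one hinv⟩, ⟨_, hs⟩, fun e => ha (isConj_one_right.mp
      (ConjClasses.mk_eq_mk_iff_isConj.mp (congrArg Subtype.val e)))⟩⟩
  rw [← Good.card_over hinv] at h2
  obtain ⟨⟨χ₁, h₁⟩, ⟨χ₂, h₂⟩, hne, hall⟩ :=
    Nat.card_eq_two_iff.mp (le_antisymm hfew h2)
  have hall' : ∀ χ, Good.Over θ χ → χ = χ₁ ∨ χ = χ₂ := fun χ hχ => by
    have hmem : (⟨χ, hχ⟩ : {χ : Cfsg.IrrCharacter Γ // Good.Over θ χ}) ∈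
        ({⟨χ₁, h₁⟩, ⟨χ₂, h₂⟩} : Set _) := by rw [hall]; trivial
    simpa using hmem
  obtain ⟨d₁, hd₁, hd₁', hd₁''⟩ := exists_ratio hinv χ₁ h₁
  obtain ⟨d₂, hd₂, hd₂', hd₂''⟩ := exists_ratio hinv χ₂ h₂
  have hsum := sum_ratio_sq hinv (fun e => hne (Subtype.ext e)) h₁ h₂ hall' hd₁' hd₁'' hd₂' hd₂''
  obtain ⟨g, hg⟩ : ∃ g, g * r = K.index := by
    rw [Subgroup.index_eq_card]
    obtain ⟨g, hg⟩ := Subgroup.card_subgroup_dvd_card (Subgroup.centralizer ({a} : Set (Γ ⧸ K)))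
    exact ⟨g, by rw [mul_comm]; exact hg.symm⟩
  have hidx : 0 < K.index := Nat.pos_of_ne_zero Subgroup.index_ne_zero_of_finite
  have hg0 : 0 < g := Nat.pos_of_ne_zero fun e => by rw [e, zero_mul] at hg; omega
  have intN : ∀ (χ : Cfsg.IrrCharacter Γ) (d : ℕ), Good.Over θ χ →
      (∀ k : K, (χ : Γ → ℂ) k = (d : ℂ) * (θ : K → ℂ) k) →
      ∃ m : ℤ, (d : ℤ) ^ 2 + g * m = K.index := by
    intro χ d hχ hd
    have he := norm_eq hinv hfew ha hs χ hχ hd hg
    have hgC : (g : ℂ) ≠ 0 := by exact_mod_cast hg0.ne'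
    have hN : (Nat.card K : ℂ)⁻¹ * cosetSq (χ : Γ → ℂ) a =
        (((((K.index : ℤ) - (d : ℤ) ^ 2 : ℤ) : ℚ) / g : ℚ) : ℂ) := by
      push_cast
      rw [eq_div_iff hgC]
      linear_combination he
    have hint := isIntegral_cosetSq χ a
    rw [hN] at hint
    obtain ⟨m, hm⟩ := IsIntegrallyClosed.isIntegral_iff.mp
      ((isIntegral_algHom_iff (Algebra.ofId ℚ ℂ |>.restrictScalars ℤ) (algebraMap ℚ ℂ).injective).mp hint)
    refine ⟨m, ?_⟩
    simp only [algebraMap_int_eq, eq_intCast] at hm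
    rw [eq_div_iff (by exact_mod_cast hg0.ne')] at hm
    have hm' : (m : ℤ) * g = (K.index : ℤ) - (d : ℤ) ^ 2 := by exact_mod_cast hm
    linear_combination hm'
  obtain ⟨m₁, hm₁⟩ := intN χ₁ d₁ h₁ hd₁'
  obtain ⟨m₂, hm₂⟩ := intN χ₂ d₂ h₂ hd₂'
  have hgr : (K.index : ℤ) = g * r := by exact_mod_cast hg.symm
  have hsum' : (d₁ : ℤ) ^ 2 + (d₂ : ℤ) ^ 2 = g * r := by rw [← hgr]; exact_mod_cast hsum
  have hgZ : (g : ℤ) ≠ 0 := by exact_mod_cast hg0.ne'
  have hN : m₁ + m₂ = r := mul_left_cancel₀ hgZ (by linear_combination hm₁ + hm₂ - hsum' + 2 * hgr)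
  -- a product of two squares
  have hprod : (g : ℤ) ^ 2 * (m₁ * m₂) = ((d₁ : ℤ) * d₂) ^ 2 := by
    have e1 : (g : ℤ) * m₁ = (d₂ : ℤ) ^ 2 := by linear_combination hm₁ - hsum' + hgr
    have e2 : (g : ℤ) * m₂ = (d₁ : ℤ) ^ 2 := by linear_combination hm₂ - hsum' + hgr
    linear_combination (g : ℤ) * m₂ * e1 + (d₂ : ℤ) ^ 2 * e2
  have hm₁pos : 0 < m₁ := by
    have e1 : (g : ℤ) * m₁ = (d₂ : ℤ) ^ 2 := by linear_combination hm₁ - hsum' + hgr
    have : 0 < (g : ℤ) * m₁ := by rw [e1]; positivity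
    exact pos_of_mul_pos_right this (by positivity)
  have hm₂pos : 0 < m₂ := by
    have e2 : (g : ℤ) * m₂ = (d₁ : ℤ) ^ 2 := by linear_combination hm₂ - hsum' + hgr
    have : 0 < (g : ℤ) * m₂ := by rw [e2]; positivity
    exact pos_of_mul_pos_right this (by positivity)
  obtain ⟨s, hs⟩ := (Int.pow_dvd_pow_iff two_ne_zero).mp
    (show (g : ℤ) ^ 2 ∣ ((d₁ : ℤ) * d₂) ^ 2 from ⟨_, hprod.symm⟩)
  have hsq : m₁ * m₂ = s ^ 2 := mul_left_cancel₀ (pow_ne_zero 2 hgZ) (by
    rw [hprod, hs]; ring)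
  haveI := Fact.mk hr
  refine ZMod.exists_sq_eq_neg_one_iff.mp ?_
  have hm0 : (m₁ : ZMod r) ≠ 0 := by
    rw [Ne, ZMod.intCast_zmod_eq_zero_iff_dvd]
    intro h
    have := Int.le_of_dvd hm₁pos h
    omega
  refine ⟨(s : ZMod r) / (m₁ : ZMod r), ?_⟩
  have e : (m₂ : ZMod r) = -(m₁ : ZMod r) := by
    have := congrArg (fun z : ℤ => (z : ZMod r)) hN
    simp only [Int.cast_add, Int.cast_natCast, ZMod.natCast_self] at this
    linear_combination this
  have e2 := congrArg (fun z : ℤ => (z : ZMod r)) hsq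
  simp only [Int.cast_mul, Int.cast_pow, e] at e2
  field_simp
  linear_combination e2

/-- The linear bound for a group of automorphisms of an elementary abelian group. -/
theorem of_mulAut_module {E : Type*} [Group E] [Finite E] {A : Type*} [CommGroup A] [Finite A] {p : ℕ}
    [Fact p.Prime] [Module (ZMod p) (Additive A)] (f : E →* MulAut A) (hf : Function.Injective f)
    (hco : ¬ p ∣ Nat.card E) (htr : ∀ u v : A, u ≠ 1 → v ≠ 1 → ∃ g : E, f g u = v)
    (htwo : ∀ x y : E, x ≠ 1 → y ≠ 1 → IsCyclic (Subgroup.centralizer ({x} : Set E)) →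
      IsCyclic (Subgroup.centralizer ({y} : Set E)) → IsConj x y) (hp2 : p ≠ 2)
    (hsq : ∀ x : E, x ≠ 1 → IsCyclic (Subgroup.centralizer ({x} : Set E)) →
      (Nat.card (Subgroup.centralizer ({x} : Set E))).Prime →
      Nat.card (Subgroup.centralizer ({x} : Set E)) % 4 ≠ 3) : Nat.card A ≤ 3 := by
  let T : E → Module.End (ZMod p) (Additive A) := fun g =>
    (MonoidHom.toAdditive (f g).toMonoidHom).toZModLinearMap p
  have hT : ∀ (g : E) (v : Additive A), Additive.toMul ((T g).toFun v) = f g (Additive.toMul v) :=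
    fun g v => rfl
  have T1 : T 1 = 1 := LinearMap.ext fun v => Additive.toMul.injective ((hT 1 v).trans (by
    rw [map_one, MulAut.one_apply, Module.End.one_apply]))
  have Tm : ∀ g h : E, T (g * h) = T g * T h := fun g h => LinearMap.ext fun v =>
    Additive.toMul.injective ((hT (g * h) v).trans (by
      rw [map_mul, MulAut.mul_apply, Module.End.mul_apply, ← hT h v]
      exact (hT g _).symm))
  let ρ : Representation (ZMod p) E (Additive A) := { toFun := T, map_one' := T1, map_mul' := Tm }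
  have hρ : ∀ (g : E) (v : Additive A), Additive.toMul (ρ g v) = f g (Additive.toMul v) := hT
  have hinj : Function.Injective ρ := fun g h e => hf (MulEquiv.ext fun a => by
    have := congrArg Additive.toMul (LinearMap.congr_fun e (Additive.ofMul a))
    rwa [hρ, hρ] at this)
  haveI : Finite (Additive A) := Finite.of_equiv A Additive.ofMul
  have h := Linear.card_le_three (ρ := ρ) hinj hco (fun u v hu hv => ?_) htwo hp2 hsq
  · rwa [← Nat.card_congr (Additive.ofMul (α := A))] at h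
  · obtain ⟨g, hg⟩ := htr (Additive.toMul u) (Additive.toMul v) (fun e => hu (Additive.toMul.injective e))
      (fun e => hv (Additive.toMul.injective e))
    exact ⟨g, Additive.toMul.injective ((hρ g u).trans hg)⟩

/-- The linear bound for a group of automorphisms of an elementary abelian group. -/
theorem of_mulAut {E : Type*} [Group E] [Finite E] {A : Type*} [CommGroup A] [Finite A] {p : ℕ}
    [Fact p.Prime] (hexp : ∀ a : A, a ^ p = 1) (f : E →* MulAut A) (hf : Function.Injective f)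
    (hco : ¬ p ∣ Nat.card E) (htr : ∀ u v : A, u ≠ 1 → v ≠ 1 → ∃ g : E, f g u = v)
    (htwo : ∀ x y : E, x ≠ 1 → y ≠ 1 → IsCyclic (Subgroup.centralizer ({x} : Set E)) →
      IsCyclic (Subgroup.centralizer ({y} : Set E)) → IsConj x y) (hp2 : p ≠ 2)
    (hsq : ∀ x : E, x ≠ 1 → IsCyclic (Subgroup.centralizer ({x} : Set E)) →
      (Nat.card (Subgroup.centralizer ({x} : Set E))).Prime →
      Nat.card (Subgroup.centralizer ({x} : Set E)) % 4 ≠ 3) : Nat.card A ≤ 3 := by
  have hexp' : ∀ v : Additive A, p • v = 0 := fun v => by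
    refine Additive.toMul.injective ?_
    rw [toMul_nsmul, toMul_zero]
    exact hexp _
  exact @of_mulAut_module E _ _ A _ _ p _ (AddCommGroup.zmodModule hexp') f hf hco htr htwo hp2 hsq

/-- **The bound.** -/
theorem card_le_three {p : ℕ} [Fact p.Prime] (hp2 : p ≠ 2) (A : Subgroup Γ) [A.Normal]
    (hA : IsPGroup p A) (hab : ∀ x ∈ A, ∀ y ∈ A, x * y = y * x)
    (hKA : ∀ g : Γ, g ∈ K ↔ ∀ a ∈ A, g * a * g⁻¹ = a) (hidx : ¬ p ∣ K.index)
    (htr : ∀ u ∈ A, ∀ v ∈ A, u ≠ 1 → v ≠ 1 → ∃ g : Γ, g * u * g⁻¹ = v)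
    (hinv : ∀ g : Γ, InvAt g K (θ : K → ℂ)) (hfew : Few θ) : Nat.card A ≤ 3 := by
  have hp : p.Prime := Fact.out
  have hexp : ∀ x ∈ A, x ^ p = 1 := by
    intro x hx
    by_cases hx1 : x = 1
    · rw [hx1, one_pow]
    obtain ⟨k, hk⟩ := IsPGroup.iff_orderOf.mp hA ⟨x, hx⟩
    rw [Subgroup.orderOf_mk] at hk
    haveI : Nontrivial A := ⟨⟨⟨x, hx⟩, 1, fun e => hx1 (congrArg Subtype.val e)⟩⟩
    obtain ⟨y, hy⟩ := exists_prime_orderOf_dvd_card' (G := A) p (by
      obtain ⟨j, hj⟩ := IsPGroup.iff_card.mp hA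
      rw [hj]
      refine dvd_pow_self p fun h => ?_
      rw [h, pow_zero] at hj
      have := Finite.one_lt_card (α := A)
      omega)
    have hy1 : (y : Γ) ≠ 1 := fun e => hp.ne_one (by rw [← hy, ← Subgroup.orderOf_coe, e, orderOf_one])
    obtain ⟨g, hg⟩ := htr y y.2 x hx hy1 hx1
    have : orderOf x = p := by
      rw [← hg, ← hy, ← Subgroup.orderOf_coe]; exact (MulAut.conj g).orderOf_eq _
    rw [← this, pow_orderOf_eq_one]
  let φ : Γ →* MulAut A := MulAut.conjNormal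
  have hker : ∀ g, φ g = 1 ↔ g ∈ K := by
    intro g
    rw [hKA]
    constructor
    · intro h a ha
      have := congrArg Subtype.val (DFunLike.congr_fun h ⟨a, ha⟩)
      rwa [MulAut.conjNormal_apply] at this
    · intro h
      refine MulEquiv.ext fun v => Subtype.ext ?_
      rw [MulAut.conjNormal_apply]
      exact h _ v.2
  let f : Γ ⧸ K →* MulAut A :=
    QuotientGroup.lift K φ fun g hg => MonoidHom.mem_ker.mpr ((hker g).mpr hg)
  have hinj : Function.Injective f := by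
    refine (injective_iff_map_eq_one f).mpr fun q hq => ?_
    obtain ⟨g, rfl⟩ := QuotientGroup.mk_surjective q
    exact (QuotientGroup.eq_one_iff g).mpr ((hker g).mp hq)
  letI : CommGroup A :=
    { (inferInstance : Group A) with mul_comm := fun a b => Subtype.ext (hab a a.2 b b.2) }
  refine of_mulAut (A := A) (p := p) (fun a => Subtype.ext (hexp a a.2)) f hinj
    (by rw [← Subgroup.index_eq_card]; exact hidx) (fun u v hu hv => ?_)
    (fun a b ha hb hca hcb => isConj_of_isCyclic hinv hfew ha hb hca hcb) hp2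
    (fun a ha hc hr => centralizer_mod_four hinv hfew ha hc hr)
  obtain ⟨g, hg⟩ := htr _ u.2 _ v.2 (fun e => hu (Subtype.ext e)) (fun e => hv (Subtype.ext e))
  exact ⟨(g : Γ ⧸ K), Subtype.ext ((MulAut.conjNormal_apply g u).trans hg)⟩

end Cfsg.Agent.Lib.NormalThree79.Gamma
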