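import Mathlib
import Cfsg.Agent.Lib.NumberTheory.Zsigmondy

/-!
# Transitive linear groups of order prime to `p` with at most one good class

`card_le_three`: a group of order prime to the odd prime `p`, faithful and transitive on the
nonzero vectors, in which all nontrivial elements with cyclic centraliser are conjugate and no
centraliser order of such an element is a prime congruent to three modulo four, lives on a space
with at most three vectors.
-/

set_option autoImplicit false
set_option linter.style.haveILetI false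
set_option linter.unusedSectionVars false

namespace Cfsg.Agent.Lib.NormalThree79.Linear

open Module

universe u v

variable {E : Type u} [Group E] {p : ℕ} [Fact p.Prime] {V : Type v} [AddCommGroup V]
  [Module (ZMod p) V] (ρ : Representation (ZMod p) E V)

/-- No invariant subspace under the single element `x`. -/
def Irred (x : E) : Prop :=
  ∀ W : Submodule (ZMod p) V, (∀ w ∈ W, ρ x w ∈ W) → W = ⊥ ∨ W = ⊤

theorem rho_inv_apply (g : E) (v : V) : ρ g⁻¹ (ρ g v) = v := by
  rw [← Module.End.mul_apply, ← map_mul, inv_mul_cancel, map_one, Module.End.one_apply]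

theorem rho_injective (g : E) : Function.Injective (ρ g) :=
  Function.LeftInverse.injective (rho_inv_apply ρ g)

variable {ρ}

/-- The operators commuting with an irreducible element are polynomials in it. -/
theorem mem_adjoin_of_commute {x : E} (hx : Irred ρ x) {g : Module.End (ZMod p) V}
    (hg : Commute g (ρ x)) : g ∈ Algebra.adjoin (ZMod p) {ρ x} := by
  rcases subsingleton_or_nontrivial V with hV | hV
  · rw [show g = 1 from LinearMap.ext fun v => Subsingleton.elim _ _]
    exact one_mem _
  obtain ⟨v, hv⟩ := exists_ne (0 : V)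
  set K := Algebra.adjoin (ZMod p) {ρ x} with hK
  let W : Submodule (ZMod p) V :=
    { carrier := {w | ∃ f ∈ K, f v = w}
      zero_mem' := ⟨0, zero_mem _, rfl⟩
      add_mem' := by
        rintro _ _ ⟨f, hf, rfl⟩ ⟨f', hf', rfl⟩
        exact ⟨f + f', add_mem hf hf', rfl⟩
      smul_mem' := by
        rintro c _ ⟨f, hf, rfl⟩
        exact ⟨c • f, K.smul_mem hf c, rfl⟩ }
  have hW : W = ⊤ := by
    refine (hx W ?_).resolve_left fun h => hv ?_
    · rintro _ ⟨f, hf, rfl⟩
      exact ⟨ρ x * f, mul_mem (Algebra.self_mem_adjoin_singleton _ _) hf, rfl⟩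
    · rw [← Submodule.mem_bot (ZMod p), ← h]
      exact ⟨1, one_mem _, rfl⟩
  obtain ⟨f, hf, hfv⟩ : g v ∈ W := by rw [hW]; trivial
  have hfc : Commute f (ρ x) := by
    refine Algebra.adjoin_induction ?_ ?_ ?_ ?_ hf
    · rintro a rfl; exact Commute.refl _
    · intro r; exact Algebra.commutes r (ρ x)
    · intro a b _ _ ha hb; exact ha.add_left hb
    · intro a b _ _ ha hb; exact ha.mul_left hb
  have hker : LinearMap.ker (g - f) = ⊤ := by
    refine (hx _ fun w hw => ?_).resolve_left fun h => hv ?_
    · rw [LinearMap.mem_ker] at hw ⊢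
      show ((g - f) * ρ x) w = 0
      rw [(hg.sub_left hfc).eq, Module.End.mul_apply, hw, map_zero]
    · rw [← Submodule.mem_bot (ZMod p), ← h, LinearMap.mem_ker, LinearMap.sub_apply, hfv, sub_self]
  rw [LinearMap.ker_eq_top, sub_eq_zero] at hker
  rwa [hker]

theorem commute_of_mem_adjoin {x : E} {f : Module.End (ZMod p) V}
    (hf : f ∈ Algebra.adjoin (ZMod p) {ρ x}) : Commute f (ρ x) := by
  refine Algebra.adjoin_induction ?_ ?_ ?_ ?_ hf
  · rintro a rfl; exact Commute.refl _
  · intro r; exact Algebra.commutes r (ρ x)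
  · intro a b _ _ ha hb; exact ha.add_left hb
  · intro a b _ _ ha hb; exact ha.mul_left hb

theorem adjoin_comm {x : E} (f f' : Algebra.adjoin (ZMod p) ({ρ x} : Set (Module.End (ZMod p) V))) :
    f * f' = f' * f := by
  apply Subtype.ext
  show (f : Module.End (ZMod p) V) * f' = f' * f
  refine Algebra.adjoin_induction ?_ ?_ ?_ ?_ f'.2
  · rintro a rfl; exact (commute_of_mem_adjoin f.2).eq
  · intro r; exact (Algebra.commutes r _).symm
  · intro a b _ _ ha hb; rw [mul_add, add_mul, ha, hb]
  · intro a b _ _ ha hb; rw [← mul_assoc, ha, mul_assoc, hb, mul_assoc]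

/-- The commutant of an irreducible element, as a commutative ring. -/
@[reducible] noncomputable def adjoinCommRing (x : E) :
    CommRing (Algebra.adjoin (ZMod p) ({ρ x} : Set (Module.End (ZMod p) V))) :=
  { Subalgebra.toRing _ with mul_comm := adjoin_comm }

theorem adjoin_noZeroDivisors [Nontrivial V] {x : E} (hx : Irred ρ x) :
    NoZeroDivisors (Algebra.adjoin (ZMod p) ({ρ x} : Set (Module.End (ZMod p) V))) := by
  refine ⟨fun {a b} h => ?_⟩
  by_contra hne
  push Not at hne
  have hker : LinearMap.ker (a : Module.End (ZMod p) V) = ⊥ := by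
    refine (hx _ fun w hw => ?_).resolve_right fun h => hne.1 ?_
    · rw [LinearMap.mem_ker] at hw ⊢
      show ((a : Module.End (ZMod p) V) * ρ x) w = 0
      rw [(commute_of_mem_adjoin a.2).eq, Module.End.mul_apply, hw, map_zero]
    · exact Subtype.ext (LinearMap.ker_eq_top.mp h)
  refine hne.2 (Subtype.ext (LinearMap.ext fun w => ?_))
  refine LinearMap.ker_eq_bot.mp hker ?_
  have h1 := LinearMap.congr_fun (congrArg Subtype.val h) w
  simpa using h1

theorem isDomain_adjoin [Nontrivial V] {x : E} (hx : Irred ρ x) :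
    IsDomain (Algebra.adjoin (ZMod p) ({ρ x} : Set (Module.End (ZMod p) V))) := by
  haveI := adjoin_noZeroDivisors hx
  haveI : Nontrivial (Algebra.adjoin (ZMod p) ({ρ x} : Set (Module.End (ZMod p) V))) :=
    ⟨⟨1, 0, fun h => by
      obtain ⟨v, hv⟩ := exists_ne (0 : V)
      exact hv (by simpa using LinearMap.congr_fun (congrArg Subtype.val h) v)⟩⟩
  exact NoZeroDivisors.to_isDomain _

/-- An irreducible element has cyclic centraliser. -/
theorem isCyclic_centralizer [Finite E] [Nontrivial V] (hinj : Function.Injective ρ) {x : E}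
    (hx : Irred ρ x) : IsCyclic (Subgroup.centralizer ({x} : Set E)) := by
  letI := adjoinCommRing (ρ := ρ) x
  haveI := isDomain_adjoin hx
  let f : Subgroup.centralizer ({x} : Set E) →*
      Algebra.adjoin (ZMod p) ({ρ x} : Set (Module.End (ZMod p) V)) :=
    MonoidHom.codRestrict (ρ.comp (Subgroup.centralizer ({x} : Set E)).subtype) _ fun c =>
      mem_adjoin_of_commute hx (by
        show ρ (c : E) * ρ x = ρ x * ρ (c : E)
        rw [← map_mul, ← map_mul, Subgroup.mem_centralizer_singleton_iff.mp c.2])
  exact isCyclic_of_injective_ringHom f fun a b h =>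
    Subtype.ext (hinj (congrArg Subtype.val h))

/-- There are at most `dim V` conjugates of an irreducible `x` among the operators commuting with
it. -/
theorem card_conj_le [Nontrivial V] [FiniteDimensional (ZMod p) V] (hinj : Function.Injective ρ)
    {x : E} (hx : Irred ρ x) (Z : Finset E) (hcomm : ∀ y ∈ Z, Commute y x)
    (hconj : ∀ y ∈ Z, IsConj x y) : Z.card ≤ finrank (ZMod p) V := by
  classical
  letI := adjoinCommRing (ρ := ρ) x
  haveI := isDomain_adjoin hx
  let K := Algebra.adjoin (ZMod p) ({ρ x} : Set (Module.End (ZMod p) V))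
  have hmem : ∀ y ∈ Z, ρ y ∈ K := fun y hy => mem_adjoin_of_commute hx ((hcomm y hy).map ρ)
  set P := (ρ x).charpoly with hP
  let Q : Polynomial K := P.map (algebraMap (ZMod p) K)
  have hQ : Q ≠ 0 := ((LinearMap.charpoly_monic _).map _).ne_zero
  let Z' : Finset K := Z.attach.image fun y => ⟨ρ y.1, hmem y.1 y.2⟩
  have hZ' : Z'.card = Z.card := by
    rw [Finset.card_image_of_injective _ fun a b h => Subtype.ext
      (hinj (congrArg Subtype.val h)), Finset.card_attach]
  have hroot : Z'.val ⊆ Q.roots := by
    intro a ha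
    obtain ⟨y, -, rfl⟩ := Finset.mem_image.mp ha
    rw [Polynomial.mem_roots hQ, Polynomial.IsRoot, Polynomial.eval_map, ← Polynomial.aeval_def]
    apply Subtype.ext
    rw [← Subalgebra.coe_val, ← Polynomial.aeval_algHom_apply]
    obtain ⟨g, hg⟩ := isConj_iff.mp (hconj y.1 y.2)
    show Polynomial.aeval (ρ y.1) P = 0
    have key : ∀ R : Polynomial (ZMod p),
        Polynomial.aeval (ρ y.1) R = ρ g * Polynomial.aeval (ρ x) R * ρ g⁻¹ := by
      intro R
      induction R using Polynomial.induction_on' with
      | add a b ha hb => rw [map_add, map_add, ha, hb, mul_add, add_mul]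
      | monomial i r =>
        rw [Polynomial.aeval_monomial, Polynomial.aeval_monomial, ← map_pow, ← hg, conj_pow,
          map_mul, map_mul, ← mul_assoc (ρ g), ← Algebra.commutes, map_pow]
        simp only [mul_assoc]
    rw [key, hP, LinearMap.aeval_self_charpoly, mul_zero, zero_mul]
  have h := Polynomial.card_le_degree_of_subset_roots hroot
  rw [hZ', Polynomial.natDegree_map_eq_of_injective (algebraMap (ZMod p) K).injective,
    hP, LinearMap.charpoly_natDegree] at h
  exact h

variable [Finite V]

theorem card_submodule (W : Submodule (ZMod p) V) : Nat.card W = p ^ finrank (ZMod p) W := by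
  rw [Module.natCard_eq_pow_finrank (K := ZMod p), Nat.card_zmod]

/-- An element of order a primitive prime divisor is irreducible. -/
theorem irred_of_orderOf (hinj : Function.Injective ρ) {x : E} {r : ℕ} (hr : r.Prime)
    (hx : orderOf x = r) (ho : orderOf (p : ZMod r) = finrank (ZMod p) V) : Irred ρ x := by
  classical
  haveI := Fact.mk hr
  let F : Submodule (ZMod p) V := LinearMap.ker (ρ x - 1)
  have hF : ∀ v, v ∈ F ↔ ρ x v = v := fun v => by
    rw [LinearMap.mem_ker, LinearMap.sub_apply, Module.End.one_apply, sub_eq_zero]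
  have hP : IsPGroup r (Subgroup.zpowers x) :=
    IsPGroup.of_card (n := 1) (by rw [Nat.card_zpowers, hx, pow_one])
  have key : ∀ W : Submodule (ZMod p) V, (∀ w ∈ W, ρ x w ∈ W) →
      ((p : ZMod r) ^ finrank (ZMod p) W = (p : ZMod r) ^ finrank (ZMod p) ↥(W ⊓ F)) := by
    intro W hW
    have hW' : ∀ g ∈ Subgroup.zpowers x, ∀ w ∈ W, ρ g w ∈ W := by
      intro g hg
      obtain ⟨k, rfl⟩ : ∃ k : ℕ, x ^ k = g :=
        (isOfFinOrder_iff_pow_eq_one.mpr ⟨r, hr.pos, hx ▸ pow_orderOf_eq_one x⟩).mem_powers_iff_mem_zpowers.mpr hg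
      intro w hw
      induction k with
      | zero => simpa using hw
      | succ k ih => rw [pow_succ', map_mul, Module.End.mul_apply]; exact hW _ (ih (Subgroup.pow_mem _ (Subgroup.mem_zpowers x) k))
    letI : MulAction (Subgroup.zpowers x) W :=
      { smul := fun g w => ⟨ρ g w, hW' g g.2 w w.2⟩
        one_smul := fun w => Subtype.ext (show ρ ((1 : Subgroup.zpowers x) : E) w = w by simp)
        mul_smul := fun g h w => Subtype.ext (show ρ ((g * h : Subgroup.zpowers x) : E) w = _ by
          simp; rfl) }
    have h := hP.card_modEq_card_fixedPoints (α := W)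
    have e : Nat.card (MulAction.fixedPoints (Subgroup.zpowers x) W) = Nat.card ↥(W ⊓ F) := by
      refine Nat.card_congr
        { toFun := fun w => ⟨w.1.1, w.1.2, (hF _).mpr (congrArg Subtype.val
            (w.2 ⟨x, Subgroup.mem_zpowers x⟩))⟩
          invFun := fun w => ⟨⟨w.1, w.2.1⟩, fun g => Subtype.ext ?_⟩
          left_inv := fun w => rfl
          right_inv := fun w => rfl }
      obtain ⟨k, hk⟩ : ∃ k : ℕ, x ^ k = g.1 :=
        (isOfFinOrder_iff_pow_eq_one.mpr ⟨r, hr.pos, hx ▸ pow_orderOf_eq_one x⟩).mem_powers_iff_mem_zpowers.mpr g.2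
      show ρ g.1 w.1 = w.1
      rw [← hk]
      clear hk
      induction k with
      | zero => simp
      | succ k ih => rw [pow_succ, map_mul, Module.End.mul_apply, (hF _).mp w.2.2, ih]
    rw [e, card_submodule, card_submodule, ← ZMod.natCast_eq_natCast_iff, Nat.cast_pow,
      Nat.cast_pow] at h
    exact h
  have hle : ∀ d, d ≤ finrank (ZMod p) V → (p : ZMod r) ^ d = 1 →
      d = 0 ∨ d = finrank (ZMod p) V := by
    intro d hd h1
    rw [← orderOf_dvd_iff_pow_eq_one, ho] at h1
    rcases Nat.eq_zero_or_pos d with h | h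
    · exact Or.inl h
    · exact Or.inr (le_antisymm hd (Nat.le_of_dvd h h1))
  have hFbot : F = ⊥ := by
    have h := key ⊤ (fun _ _ => trivial)
    rw [top_inf_eq, finrank_top] at h
    have hone : (p : ZMod r) ^ finrank (ZMod p) V = 1 := by rw [← ho, pow_orderOf_eq_one]
    rw [hone, eq_comm] at h
    rcases hle _ (Submodule.finrank_le F) h with h0 | h0
    · exact Submodule.finrank_eq_zero.mp h0
    · have : x = 1 := hinj (LinearMap.ext fun v => by
        rw [map_one, Module.End.one_apply, ← hF, Submodule.eq_top_of_finrank_eq h0]; trivial)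
      rw [this, orderOf_one] at hx
      exact absurd hx.symm hr.ne_one
  intro W hW
  have h := key W hW
  rw [hFbot, inf_bot_eq, finrank_bot, pow_zero] at h
  rcases hle _ (Submodule.finrank_le W) h with h0 | h0
  · exact Or.inl (Submodule.finrank_eq_zero.mp h0)
  · exact Or.inr (Submodule.eq_top_of_finrank_eq h0)

/-! ### The bound -/

variable [Finite E] (hinj : Function.Injective ρ) (hco : ¬ p ∣ Nat.card E)
  (htr : ∀ u v : V, u ≠ 0 → v ≠ 0 → ∃ g : E, ρ g u = v)
  (htwo : ∀ x y : E, x ≠ 1 → y ≠ 1 → IsCyclic (Subgroup.centralizer ({x} : Set E)) →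
    IsCyclic (Subgroup.centralizer ({y} : Set E)) → IsConj x y)

/-- The action on vectors. -/
@[reducible] def vecAction (ρ : Representation (ZMod p) E V) : MulAction E V where
  smul g v := ρ g v
  one_smul v := by show ρ 1 v = v; simp
  mul_smul g h v := by show ρ (g * h) v = ρ g (ρ h v); simp

include hinj htr in
theorem card_stab {v : V} (hv : v ≠ 0) :
    letI := vecAction ρ
    (Nat.card V - 1) * Nat.card (MulAction.stabilizer E v) = Nat.card E := by
  classical
  letI := vecAction ρ
  have horb : MulAction.orbit E v = {w | w ≠ 0} := by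
    ext w
    constructor
    · rintro ⟨g, rfl⟩ h
      exact hv (rho_injective ρ g (h.trans (map_zero _).symm))
    · intro hw
      obtain ⟨g, hg⟩ := htr v w hv hw
      exact ⟨g, hg⟩
  rw [← (MulAction.stabilizer E v).index_mul_card, MulAction.index_stabilizer, horb,
    show {w : V | w ≠ 0} = ({0} : Set V)ᶜ from rfl, Set.ncard_compl, Set.ncard_singleton]

omit [Finite V] in
theorem centralizer_pow {x : E} {r : ℕ} (hr : r.Prime) (hx : orderOf x = r) {j : ℕ}
    (hj : ¬ r ∣ j) :
    Subgroup.centralizer ({x ^ j} : Set E) = Subgroup.centralizer ({x} : Set E) := by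
  obtain ⟨m, hm⟩ := exists_pow_eq_self_of_coprime (x := x) (n := j)
    (hx ▸ ((Nat.Prime.coprime_iff_not_dvd hr).mpr hj).symm)
  ext c
  simp only [Subgroup.mem_centralizer_singleton_iff]
  exact ⟨fun h => by rw [← hm]; exact (Commute.pow_right h m :),
    fun h => (Commute.pow_right h j :)⟩

include hinj htwo in
/-- The centraliser of an irreducible element of prime order has that order. -/
theorem card_centralizer_eq [Nontrivial V] {x : E} {r : ℕ} (hr : r.Prime) (hx : orderOf x = r)
    (hirr : Irred ρ x) : Nat.card (Subgroup.centralizer ({x} : Set E)) = r := by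
  haveI hc := isCyclic_centralizer hinj hirr
  obtain ⟨c, hgen⟩ := IsCyclic.exists_generator (α := Subgroup.centralizer ({x} : Set E))
  have hxm : x ∈ Subgroup.centralizer ({x} : Set E) := Subgroup.mem_centralizer_singleton_iff.mpr rfl
  have hx1 : x ≠ 1 := fun h => hr.ne_one (by rw [← hx, h, orderOf_one])
  have hcx : Subgroup.centralizer ({(c : E)} : Set E) = Subgroup.centralizer ({x} : Set E) := by
    obtain ⟨k, hk⟩ := hgen ⟨x, hxm⟩
    have hk' : (c : E) ^ k = x := congrArg Subtype.val hk
    ext z
    rw [Subgroup.mem_centralizer_singleton_iff]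
    constructor
    · intro h
      rw [Subgroup.mem_centralizer_singleton_iff, ← hk']
      exact (Commute.zpow_right h k).eq
    · intro h
      obtain ⟨i, hi⟩ := hgen ⟨z, h⟩
      have hi' : (c : E) ^ i = z := congrArg Subtype.val hi
      rw [← hi']
      exact (Commute.zpow_self _ _).eq
  have hc1 : (c : E) ≠ 1 := fun h => by
    obtain ⟨k, hk⟩ := hgen ⟨x, hxm⟩
    have hk' : (c : E) ^ k = x := congrArg Subtype.val hk
    rw [h, one_zpow] at hk'
    exact hx1 hk'.symm
  obtain ⟨g, hg⟩ := isConj_iff.mp (htwo x c hx1 hc1 hc (by rw [hcx]; exact hc))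
  have ho : orderOf (c : E) = r := by
    rw [← hg, ← hx]; exact (MulAut.conj g).orderOf_eq x
  rw [← orderOf_eq_card_of_forall_mem_zpowers hgen, ← Subgroup.orderOf_coe, ho]

include hinj htr htwo hco in
theorem finrank_ne_two (h2 : finrank (ZMod p) V = 2) : False := by
  classical
  have hp : p.Prime := Fact.out
  haveI : Nontrivial V := Module.nontrivial_of_finrank_eq_succ h2
  haveI := Fintype.ofFinite E
  let L := {W : Submodule (ZMod p) V // finrank (ZMod p) W = 1}
  haveI : Finite (Submodule (ZMod p) V) := Finite.of_injective (fun W => (W : Set V)) SetLike.coe_injective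
  haveI : Fintype L := Fintype.ofFinite _
  have hmap : ∀ (g : E) (W : Submodule (ZMod p) V), finrank (ZMod p) (W.map (ρ g)) = finrank (ZMod p) W :=
    fun g W => (Submodule.equivMapOfInjective _ (rho_injective ρ g) W).finrank_eq.symm
  letI : MulAction E L :=
    { smul := fun g W => ⟨W.1.map (ρ g), (hmap g W.1).trans W.2⟩
      one_smul := fun W => Subtype.ext (show W.1.map (ρ 1) = W.1 by
        rw [map_one]; exact Submodule.map_id _)
      mul_smul := fun g h W => Subtype.ext (show W.1.map (ρ (g * h)) = (W.1.map (ρ h)).map (ρ g) by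
        rw [map_mul]; exact Submodule.map_comp _ _ _) }
  have line : ∀ v : V, v ≠ 0 → finrank (ZMod p) (Submodule.span (ZMod p) {v}) = 1 :=
    fun v hv => finrank_span_singleton hv
  have hspan : ∀ W : L, ∃ v : V, v ≠ 0 ∧ Submodule.span (ZMod p) {v} = W.1 := by
    intro W
    obtain ⟨v, hv, hv0⟩ := Submodule.exists_mem_ne_zero_of_ne_bot (p := W.1) (fun h => by
      have := W.2; rw [h, finrank_bot] at this; omega)
    refine ⟨v, hv0, Submodule.eq_of_le_of_finrank_eq ((Submodule.span_singleton_le_iff_mem _ _).mpr hv) ?_⟩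
    rw [W.2, line v hv0]
  have hpre : MulAction.IsPretransitive E L := ⟨fun W W' => by
    obtain ⟨v, hv, hW⟩ := hspan W
    obtain ⟨w, hw, hW'⟩ := hspan W'
    obtain ⟨g, hg⟩ := htr v w hv hw
    refine ⟨g, Subtype.ext ?_⟩
    show W.1.map (ρ g) = W'.1
    rw [← hW, Submodule.map_span, Set.image_singleton, hg, hW']⟩
  haveI : Subsingleton (MulAction.orbitRel.Quotient E L) := by
    refine ⟨fun a b => ?_⟩
    induction a using Quotient.inductionOn'
    induction b using Quotient.inductionOn'
    exact Quotient.sound' (MulAction.orbitRel_apply.mpr (hpre.exists_smul_eq _ _))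
  -- two independent eigenvectors
  have two : ∀ g : E, ¬ Irred ρ g → 2 ≤ Fintype.card (MulAction.fixedBy L g) := by
    intro g hg
    simp only [Irred, not_forall, not_or] at hg
    obtain ⟨W, hW, hb, ht⟩ := hg
    have hW1 : finrank (ZMod p) W = 1 := by
      have h1 : finrank (ZMod p) W ≠ 0 := fun h => hb (Submodule.finrank_eq_zero.mp h)
      have h3 : finrank (ZMod p) W ≠ 2 := fun h =>
        ht (Submodule.eq_top_of_finrank_eq (h.trans h2.symm))
      have := Submodule.finrank_le W
      omega
    obtain ⟨v, hv, hvW⟩ := hspan ⟨W, hW1⟩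
    obtain ⟨w, hw⟩ : ∃ w, w ∉ W := by
      by_contra h; push Not at h; exact ht (eq_top_iff.mpr fun z _ => h z)
    simp only at hvW
    have hvW' : v ∈ W := hvW ▸ Submodule.mem_span_singleton_self v
    obtain ⟨a, ha⟩ := Submodule.mem_span_singleton.mp (hvW ▸ hW v hvW' : ρ g v ∈ Submodule.span (ZMod p) {v})
    have hbas : Submodule.span (ZMod p) ({v, w} : Set V) = ⊤ := by
      refine Submodule.eq_top_of_finrank_eq (le_antisymm (Submodule.finrank_le _) ?_)
      rw [h2]
      have hlt : W < Submodule.span (ZMod p) ({v, w} : Set V) := by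
        refine lt_of_le_of_ne (hvW ▸ Submodule.span_mono (by simp)) fun h => hw ?_
        rw [h]; exact Submodule.subset_span (by simp)
      have := Submodule.finrank_lt_finrank_of_lt hlt
      omega
    obtain ⟨c, d, hcd⟩ := Submodule.mem_span_pair.mp (by rw [hbas]; trivial : ρ g w ∈ Submodule.span (ZMod p) ({v, w} : Set V))
    obtain ⟨u, hu, huW⟩ : ∃ u : V, (∃ b : ZMod p, ρ g u = b • u) ∧ u ∉ W := by
      by_cases hda : d = a
      · refine ⟨w, ⟨d, ?_⟩, hw⟩
        have hk : ∀ k : ℕ, ρ (g ^ k) v = a ^ k • v ∧
            a • ρ (g ^ k) w = a ^ (k + 1) • w + ((k : ZMod p) * a ^ k * c) • v := by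
          intro k
          induction k with
          | zero => simp
          | succ k ih =>
            refine ⟨?_, ?_⟩
            · rw [pow_succ', map_mul, Module.End.mul_apply, ih.1, map_smul, ← ha, smul_smul,
                pow_succ]
            · rw [pow_succ', map_mul, Module.End.mul_apply, ← map_smul, ih.2, map_add, map_smul,
                map_smul, ← ha, ← hcd, hda, smul_add, smul_smul, smul_smul, smul_smul]
              push_cast
              module
        obtain ⟨h1, h3⟩ := hk (orderOf g)
        rw [pow_orderOf_eq_one, map_one, Module.End.one_apply] at h1 h3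
        have hak : a ^ orderOf g = 1 := by
          by_contra h
          refine hv ?_
          have : (a ^ orderOf g - 1) • v = 0 := by rw [sub_smul, one_smul, ← h1, sub_self]
          exact (smul_eq_zero.mp this).resolve_left (sub_ne_zero.mpr h)
        have hc0 : c = 0 := by
          rw [pow_succ, hak, one_mul, mul_one, left_eq_add, smul_eq_zero, or_iff_left hv,
            mul_eq_zero, ZMod.natCast_eq_zero_iff] at h3
          exact h3.resolve_left fun h => hco (h.trans (orderOf_dvd_natCard g))
        rw [← hcd, hc0, zero_smul, zero_add]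
      · refine ⟨w + (c / (d - a)) • v, ⟨d, ?_⟩, fun h => hw ?_⟩
        · rw [map_add, map_smul, ← hcd, ← ha, smul_add, smul_smul, smul_smul]
          have e : c + c / (d - a) * a = d * (c / (d - a)) := by
            have : d - a ≠ 0 := sub_ne_zero.mpr hda
            field_simp; ring
          rw [← e, add_smul]
          abel
        · simpa using W.sub_mem h (W.smul_mem (c / (d - a)) hvW')
    have hu0 : u ≠ 0 := fun h => huW (h ▸ W.zero_mem)
    let W₂ : L := ⟨Submodule.span (ZMod p) {u}, line u hu0⟩
    have hfix : ∀ X : L, (∀ z ∈ X.1, ρ g z ∈ X.1) → g • X = X := fun X hX => Subtype.ext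
      (Submodule.eq_of_le_of_finrank_eq (Submodule.map_le_iff_le_comap.mpr fun z hz => hX z hz)
        (hmap g X.1))
    have hfix2 : g • W₂ = W₂ := hfix W₂ fun z hz => by
      obtain ⟨t, rfl⟩ := Submodule.mem_span_singleton.mp hz
      obtain ⟨b, hb'⟩ := hu
      rw [map_smul, hb']
      exact Submodule.smul_mem _ _ (Submodule.smul_mem _ _ (Submodule.mem_span_singleton_self u))
    rw [Nat.succ_le_iff, Fintype.one_lt_card_iff]
    exact ⟨⟨⟨W, hW1⟩, hfix _ hW⟩, ⟨W₂, hfix2⟩, fun h => huW (by
      have e := congrArg (fun X => X.1.1) h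
      simp only [W₂] at e
      rw [e]; exact Submodule.mem_span_singleton_self u)⟩
  have three : 3 ≤ Fintype.card L := by
    obtain ⟨v, hv⟩ := exists_ne (0 : V)
    obtain ⟨w, hw⟩ : ∃ w, w ∉ Submodule.span (ZMod p) {v} := by
      by_contra h; push Not at h
      have hle : finrank (ZMod p) V ≤ 1 := by
        rw [← finrank_top (ZMod p) V, ← line v hv]
        exact Submodule.finrank_mono fun z _ => h z
      omega
    have hw0 : w ≠ 0 := fun h => hw (h ▸ Submodule.zero_mem _)
    have hvw : v + w ≠ 0 := fun h => hw (by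
      rw [eq_neg_of_add_eq_zero_right h]
      exact Submodule.neg_mem _ (Submodule.mem_span_singleton_self v))
    rw [Nat.succ_le_iff, Fintype.two_lt_card_iff]
    refine ⟨⟨_, line v hv⟩, ⟨_, line w hw0⟩, ⟨_, line _ hvw⟩, fun h => hw ?_, fun h => hw ?_, fun h => hv ?_⟩
    · have e : Submodule.span (ZMod p) {v} = Submodule.span (ZMod p) {w} := congrArg Subtype.val h
      rw [e]; exact Submodule.mem_span_singleton_self w
    · have e : Submodule.span (ZMod p) {v} = Submodule.span (ZMod p) {v + w} := congrArg Subtype.val h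
      have : v + w ∈ Submodule.span (ZMod p) {v} := by rw [e]; exact Submodule.mem_span_singleton_self _
      simpa using Submodule.sub_mem _ this (Submodule.mem_span_singleton_self v)
    · have e : Submodule.span (ZMod p) {w} = Submodule.span (ZMod p) {v + w} := congrArg Subtype.val h
      have h' : v + w ∈ Submodule.span (ZMod p) {w} := by rw [e]; exact Submodule.mem_span_singleton_self _
      have hv' : v ∈ Submodule.span (ZMod p) {w} := by
        simpa using Submodule.sub_mem _ h' (Submodule.mem_span_singleton_self w)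
      obtain ⟨t, ht⟩ := Submodule.mem_span_singleton.mp hv'
      by_contra hv0
      have ht0 : t ≠ 0 := fun h0 => hv0 (by rw [← ht, h0, zero_smul])
      exact hw (Submodule.mem_span_singleton.mpr ⟨t⁻¹, by rw [← ht, smul_smul, inv_mul_cancel₀ ht0, one_smul]⟩)
  -- Burnside
  haveI : Nonempty L := Fintype.card_pos_iff.mp (by omega)
  have hb := MulAction.sum_card_fixedBy_eq_card_orbits_mul_card_group E L
  haveI : Nonempty (MulAction.orbitRel.Quotient E L) := ⟨Quotient.mk'' (Classical.arbitrary L)⟩
  rw [Fintype.card_eq_one_iff_nonempty_unique.mpr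
    ⟨uniqueOfSubsingleton (Classical.arbitrary _)⟩, one_mul] at hb
  set I := Finset.univ.filter fun g : E => Irred ρ g with hI
  have hone : (1 : E) ∈ Finset.univ \ I := by
    simp only [hI, Finset.mem_sdiff, Finset.mem_univ, true_and, Finset.mem_filter]
    intro h
    obtain ⟨v, hv⟩ := exists_ne (0 : V)
    rcases h (Submodule.span (ZMod p) {v}) (fun w hw => by simpa using hw) with e | e
    · exact hv (Submodule.span_singleton_eq_bot.mp e)
    · have := line v hv; rw [e, finrank_top, h2] at this; omega
  have hsum : 2 * (Fintype.card E - I.card) + 1 ≤ Fintype.card E := by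
    have hone' : Fintype.card (MulAction.fixedBy L (1 : E)) = Fintype.card L :=
      Fintype.card_congr (Equiv.subtypeUnivEquiv fun W => one_smul E W)
    calc 2 * (Fintype.card E - I.card) + 1
        = ∑ g ∈ Finset.univ \ I, 2 + 1 := by
          rw [Finset.sum_const, Finset.card_sdiff_of_subset (Finset.subset_univ _), Finset.card_univ,
            smul_eq_mul, mul_comm]
      _ = ∑ g ∈ (Finset.univ \ I).erase 1, 2 + 3 := by
          rw [← Finset.add_sum_erase _ _ hone]; omega
      _ ≤ ∑ g ∈ (Finset.univ \ I).erase 1, Fintype.card (MulAction.fixedBy L g) +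
            Fintype.card (MulAction.fixedBy L (1 : E)) := by
          refine Nat.add_le_add (Finset.sum_le_sum fun g hg => two g ?_) (hone' ▸ three)
          have := (Finset.mem_sdiff.mp (Finset.mem_erase.mp hg).2).2
          simpa [hI] using this
      _ ≤ ∑ g : E, Fintype.card (MulAction.fixedBy L g) := by
          rw [Finset.sum_erase_add _ _ hone]
          exact Finset.sum_le_univ_sum_of_nonneg (fun _ => Nat.zero_le _)
      _ = Fintype.card E := hb
  obtain ⟨x, hx⟩ : I.Nonempty := Finset.card_pos.mp (by have := I.card_le_univ; omega)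
  have hxi : Irred ρ x := (Finset.mem_filter.mp hx).2
  have hne : ∀ y, Irred ρ y → y ≠ 1 := fun y hy h => by
    simp [hI, h ▸ hy] at hone
  have hI' : ∀ y ∈ I, IsConj x y := fun y hy => by
    have hyi := (Finset.mem_filter.mp hy).2
    exact htwo x y (hne x hxi) (hne y hyi) (isCyclic_centralizer hinj hxi)
      (isCyclic_centralizer hinj hyi)
  have hcl : I.card * Nat.card (Subgroup.centralizer ({x} : Set E)) ≤ Fintype.card E := by
    have h1 : I.card ≤ Nat.card (MulAction.orbit (ConjAct E) x) := by
      rw [← Fintype.card_coe I, ← Nat.card_eq_fintype_card]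
      refine Nat.card_le_card_of_injective (fun y => ⟨y.1, ?_⟩) fun a b h =>
        Subtype.ext (congrArg Subtype.val h :)
      rw [ConjAct.mem_orbit_conjAct]
      exact (hI' y.1 y.2).symm
    have h3 := (MulAction.stabilizer (ConjAct E) x).index_mul_card
    rw [MulAction.index_stabilizer, ← Nat.card_coe_set_eq, ConjAct.stabilizer_eq_centralizer,
      Nat.card_congr (ConjAct.ofConjAct (G := E)).toEquiv] at h3
    rw [← Nat.card_eq_fintype_card (α := E)]
    calc I.card * Nat.card (Subgroup.centralizer ({x} : Set E)) ≤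
        Nat.card (MulAction.orbit (ConjAct E) x) * Nat.card (Subgroup.centralizer ({x} : Set E)) :=
          Nat.mul_le_mul_right _ h1
      _ = Nat.card E := h3
  have hC : 2 ≤ Nat.card (Subgroup.centralizer ({x} : Set E)) := by
    rw [Nat.succ_le_iff, Subgroup.one_lt_card_iff_ne_bot]
    intro h
    exact hne x hxi (Subgroup.mem_bot.mp (h ▸ Subgroup.mem_centralizer_singleton_iff.mpr rfl))
  have := Nat.mul_le_mul_left I.card hC
  have := I.card_le_univ
  omega

include hinj htr htwo in
theorem finrank_one_card_le (h1 : finrank (ZMod p) V = 1) : Nat.card V ≤ 3 := by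
  classical
  haveI : Nontrivial V := Module.nontrivial_of_finrank_eq_succ h1
  have hirr : ∀ x : E, Irred ρ x := fun x W _ => by
    have := Submodule.finrank_le W
    rcases (show finrank (ZMod p) W = 0 ∨ finrank (ZMod p) W = 1 by omega) with h | h
    · exact Or.inl (Submodule.finrank_eq_zero.mp h)
    · exact Or.inr (Submodule.eq_top_of_finrank_eq (h.trans h1.symm))
  haveI := isCyclic_centralizer hinj (hirr 1)
  have hcomm : ∀ a b : E, a * b = b * a := fun a b => by
    have hm : ∀ z : E, z ∈ Subgroup.centralizer ({1} : Set E) := fun z =>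
      Subgroup.mem_centralizer_singleton_iff.mpr (by simp)
    letI := IsCyclic.commGroup (α := Subgroup.centralizer ({1} : Set E))
    exact congrArg Subtype.val (mul_comm (⟨a, hm a⟩ : Subgroup.centralizer ({1} : Set E)) ⟨b, hm b⟩)
  haveI := Fintype.ofFinite E
  have hE : Fintype.card E ≤ 2 := by
    by_contra h
    obtain ⟨a, b, ha, hb, hab⟩ : ∃ a b : E, a ≠ 1 ∧ b ≠ 1 ∧ a ≠ b := by
      have h' : 1 < (Finset.univ.erase (1 : E)).card := by
        rw [Finset.card_erase_of_mem (Finset.mem_univ _), Finset.card_univ]; omega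
      obtain ⟨a, ha, b, hb, hab⟩ := Finset.one_lt_card.mp h'
      exact ⟨a, b, (Finset.mem_erase.mp ha).1, (Finset.mem_erase.mp hb).1, hab⟩
    obtain ⟨g, hg⟩ := isConj_iff.mp (htwo a b ha hb (isCyclic_centralizer hinj (hirr a))
      (isCyclic_centralizer hinj (hirr b)))
    rw [hcomm g a, mul_inv_cancel_right] at hg
    exact hab hg
  obtain ⟨v, hv⟩ := exists_ne (0 : V)
  have h := card_stab hinj htr hv
  letI := vecAction ρ
  have := Nat.le_of_dvd (Nat.card_pos (α := E)) (Dvd.intro _ h)
  rw [Nat.card_eq_fintype_card (α := E)] at this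
  omega

include hinj hco htr htwo in
/-- **The bound.** -/
theorem card_le_three (hp2 : p ≠ 2)
    (hsq : ∀ x : E, x ≠ 1 → IsCyclic (Subgroup.centralizer ({x} : Set E)) →
      (Nat.card (Subgroup.centralizer ({x} : Set E))).Prime →
      Nat.card (Subgroup.centralizer ({x} : Set E)) % 4 ≠ 3) : Nat.card V ≤ 3 := by
  classical
  have hp : p.Prime := Fact.out
  have hcard : Nat.card V = p ^ finrank (ZMod p) V := by
    rw [Module.natCard_eq_pow_finrank (K := ZMod p), Nat.card_zmod]
  rcases Nat.lt_or_ge (finrank (ZMod p) V) 3 with hn | hn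
  · rcases (show finrank (ZMod p) V = 0 ∨ finrank (ZMod p) V = 1 ∨ finrank (ZMod p) V = 2 by
      omega) with h | h | h
    · rw [hcard, h, pow_zero]; norm_num
    · exact finrank_one_card_le hinj htr htwo h
    · exact (finrank_ne_two hinj hco htr htwo h).elim
  exfalso
  set n := finrank (ZMod p) V with hn'
  haveI : Nontrivial V := Module.nontrivial_of_finrank_pos (R := ZMod p) (by omega)
  obtain ⟨v, hv⟩ := exists_ne (0 : V)
  have hdvd : p ^ n - 1 ∣ Nat.card E := by
    rw [← hcard]; exact Dvd.intro _ (card_stab hinj htr hv)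
  set m := NumberTheory.primPart n p with hm
  have hmd : m ∣ Nat.card E :=
    (NumberTheory.primPart_dvd_pow_sub_one (by omega) hp.two_le).trans hdvd
  have hm1 : 1 < m := NumberTheory.one_lt_primPart hn hp.two_le (fun h => hp2 h.1)
  have facts : ∀ {s : ℕ}, s.Prime → s ∣ m → ∀ y : E, orderOf y = s →
      Irred ρ y ∧ y ≠ 1 ∧ IsCyclic (Subgroup.centralizer ({y} : Set E)) ∧
        Nat.card (Subgroup.centralizer ({y} : Set E)) = s := by
    intro s hs hsm y hy
    have hirr := irred_of_orderOf hinj hs hy
      (NumberTheory.orderOf_eq_of_dvd_primPart hs hn hp.two_le hsm)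
    exact ⟨hirr, fun h => hs.ne_one (by rw [← hy, h, orderOf_one]),
      isCyclic_centralizer hinj hirr, card_centralizer_eq hinj htwo hs hy hirr⟩
  obtain ⟨r, hr, hrm⟩ := Nat.exists_prime_and_dvd (n := m) (by omega)
  haveI := Fact.mk hr
  obtain ⟨x, hx⟩ := exists_prime_orderOf_dvd_card' (G := E) r (hrm.trans hmd)
  obtain ⟨hxi, hx1, hxc, hxC⟩ := facts hr hrm x hx
  have huniq : ∀ {s : ℕ}, s.Prime → s ∣ m → s = r := by
    intro s hs hsm
    haveI := Fact.mk hs
    obtain ⟨y, hy⟩ := exists_prime_orderOf_dvd_card' (G := E) s (hsm.trans hmd)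
    obtain ⟨hyi, hy1, hyc, -⟩ := facts hs hsm y hy
    obtain ⟨g, hg⟩ := isConj_iff.mp (htwo x y hx1 hy1 hxc hyc)
    rw [← hy, ← hx, ← hg]; exact (MulAut.conj g).orderOf_eq x
  have hsqf : ¬ r ^ 2 ∣ Nat.card E := by
    intro h
    obtain ⟨H, hH⟩ := Sylow.exists_subgroup_card_pow_prime r h
    haveI : Finite H := inferInstance
    obtain ⟨y, hy⟩ := exists_prime_orderOf_dvd_card' (G := H) r (hH ▸ dvd_pow_self r two_ne_zero)
    have hy' : orderOf (y : E) = r := (Subgroup.orderOf_coe y).trans hy
    obtain ⟨-, -, -, hC⟩ := facts hr hrm (y : E) hy'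
    have hle : H ≤ Subgroup.centralizer ({(y : E)} : Set E) := fun z hz =>
      Subgroup.mem_centralizer_singleton_iff.mpr
        (congrArg Subtype.val ((IsPGroup.isMulCommutative_of_card_eq_prime_sq hH).is_comm.comm ⟨z, hz⟩ y))
    have := Subgroup.card_le_of_le hle
    rw [hH, hC] at this
    have := hr.two_le
    nlinarith
  have hmr : m = r := by
    have e := Nat.eq_prime_pow_of_unique_prime_dvd (n := m) (p := r) (by omega)
      fun {s} hs hsd => huniq hs hsd
    generalize hk : m.primeFactorsList.length = k at e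
    rcases Nat.lt_or_ge k 2 with hk2 | hk2
    · interval_cases k
      · rw [pow_zero] at e; omega
      · rwa [pow_one] at e
    · exact absurd ((pow_dvd_pow r hk2).trans (e ▸ hmd)) hsqf
  -- all nontrivial powers are conjugate
  have hrn : r = n + 1 := by
    have h1 : r - 1 ≤ n := by
      let Z := ((Finset.range r).erase 0).image fun j => x ^ j
      have hZ : Z.card = r - 1 := by
        rw [Finset.card_image_of_injOn, Finset.card_erase_of_mem (by simp [hr.pos]),
          Finset.card_range]
        intro a ha b hb h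
        simp only [Finset.coe_erase, Finset.coe_range, Set.mem_sdiff, Set.mem_Iio] at ha hb
        exact pow_injOn_Iio_orderOf (by simpa [hx] using ha.1) (by simpa [hx] using hb.1) h
      rw [← hZ]
      refine card_conj_le hinj hxi Z (fun y hy => ?_) fun y hy => ?_
      · obtain ⟨j, -, rfl⟩ := Finset.mem_image.mp hy
        exact Commute.pow_self x j
      · obtain ⟨j, hj, rfl⟩ := Finset.mem_image.mp hy
        simp only [Finset.mem_erase, Finset.mem_range] at hj
        have hjr : ¬ r ∣ j := fun h => by have := Nat.le_of_dvd (by omega) h; omega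
        refine htwo x _ hx1 (fun h => hjr (hx ▸ orderOf_dvd_of_pow_eq_one h)) hxc ?_
        rw [centralizer_pow hr hx hjr]
        exact hxc
    have h2 : n ∣ r - 1 :=
      NumberTheory.orderOf_eq_dvd_sub_one hr (by omega)
        (NumberTheory.orderOf_eq_of_dvd_primPart hr hn hp.two_le hrm)
    have := Nat.le_of_dvd (by have := hr.two_le; omega) h2
    have := hr.two_le
    omega
  have hex : (p, n) ∈ NumberTheory.smallPairs := by
    by_contra h
    have h3 := NumberTheory.three_mul_add_one_le_primPart hn hp.two_le h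
    rw [← hm, hmr, hrn] at h3
    omega
  simp only [NumberTheory.smallPairs, List.mem_cons, Prod.mk.injEq, List.not_mem_nil, or_false] at hex
  have hcases : (p = 3 ∧ n = 4) ∨ n = 6 := by
    rcases hex with h | h | h | h | h | h | h | h | h | h | h | h | h
    all_goals (obtain ⟨h1, h2⟩ := h; first | omega | skip)
    all_goals (exfalso; rw [h1] at hp; norm_num at hp)
  rcases hcases with ⟨rfl, h4⟩ | h6
  · rw [h4] at hrn hdvd
    subst hrn
    obtain ⟨S⟩ : Nonempty (Sylow 2 E) := inferInstance
    haveI : Fact (Nat.Prime 2) := ⟨Nat.prime_two⟩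
    have h16 : 16 ∣ Nat.card E := (show 16 ∣ 3 ^ 4 - 1 by decide).trans hdvd
    have hS16 : 16 ∣ Nat.card S := by
      rw [Sylow.card_eq_multiplicity S, show (16 : ℕ) = 2 ^ 4 by norm_num]
      exact pow_dvd_pow 2 ((Nat.prime_two.pow_dvd_iff_le_factorization Nat.card_pos.ne').mp
        (by rw [show (2 : ℕ) ^ 4 = 16 by norm_num]; exact h16))
    haveI : Nontrivial S := Finite.one_lt_card_iff_nontrivial.mp
      (lt_of_lt_of_le (by norm_num) (Nat.le_of_dvd Nat.card_pos hS16))
    haveI := S.2.center_nontrivial
    obtain ⟨w, hw⟩ := exists_prime_orderOf_dvd_card' (G := Subgroup.center S) 2 (by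
      obtain ⟨k, hk⟩ := IsPGroup.iff_card.mp (S.2.to_subgroup (Subgroup.center S))
      rw [hk]
      refine dvd_pow_self 2 fun h => ?_
      rw [h, pow_zero] at hk
      have := Finite.one_lt_card (α := Subgroup.center S)
      omega)
    set z : E := ((w : S) : E) with hz
    have hzo : orderOf z = 2 := by rw [hz, Subgroup.orderOf_coe, Subgroup.orderOf_coe, hw]
    have hzS : ∀ s : S, (s : E) * z = z * s := fun s =>
      congrArg Subtype.val (Subgroup.mem_center_iff.mp w.2 s)
    let Vp : Submodule (ZMod 3) V := LinearMap.ker (ρ z - 1)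
    let Vm : Submodule (ZMod 3) V := LinearMap.ker (ρ z + 1)
    have hz2 : ∀ u, ρ z (ρ z u) = u := fun u => by
      rw [← Module.End.mul_apply, ← map_mul, ← pow_two, ← hzo, pow_orderOf_eq_one, map_one,
        Module.End.one_apply]
    have hpb : Vp ≠ ⊥ := fun h => by
      have hall : ∀ u, ρ z u = -u := fun u => by
        have hmem : u + ρ z u ∈ Vp := by
          simp [Vp, map_add, hz2, add_comm]
        rw [h, Submodule.mem_bot] at hmem
        exact eq_neg_of_add_eq_zero_right hmem
      have hzc : z ∈ Subgroup.centralizer ({x} : Set E) :=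
        Subgroup.mem_centralizer_singleton_iff.mpr (hinj (LinearMap.ext fun u => by
          rw [map_mul, map_mul, Module.End.mul_apply, Module.End.mul_apply, hall, hall, map_neg]))
      have := (Subgroup.centralizer ({x} : Set E)).orderOf_dvd_natCard hzc
      rw [hzo, hxC] at this
      omega
    have hmb : Vm ≠ ⊥ := fun h => by
      have hall : ∀ u, ρ z u = u := fun u => by
        have hmem : ρ z u - u ∈ Vm := by
          simp [Vm, map_sub, hz2]
          abel
        rw [h, Submodule.mem_bot, sub_eq_zero] at hmem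
        exact hmem
      have : z = 1 := hinj (LinearMap.ext fun u => by rw [map_one, Module.End.one_apply, hall])
      rw [this, orderOf_one] at hzo
      omega
    have hdis : Disjoint Vp Vm := by
      rw [Submodule.disjoint_def]
      intro u h1 h2
      simp only [Vp, Vm, LinearMap.mem_ker, LinearMap.sub_apply, LinearMap.add_apply,
        Module.End.one_apply, sub_eq_zero] at h1 h2
      rw [h1, ← two_smul (ZMod 3), smul_eq_zero] at h2
      exact h2.resolve_left fun h0 => by
        have h' : ((2 : ℕ) : ZMod 3) = 0 := by exact_mod_cast h0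
        rw [ZMod.natCast_eq_zero_iff] at h'
        omega
    have hsum : finrank (ZMod 3) Vp + finrank (ZMod 3) Vm ≤ 4 := by
      rw [← h4, hn']; exact Submodule.finrank_add_finrank_le_of_disjoint hdis
    obtain ⟨W, hWS, hW0, hW2⟩ : ∃ W : Submodule (ZMod 3) V,
        (∀ s : S, ∀ u ∈ W, ρ (s : E) u ∈ W) ∧ W ≠ ⊥ ∧ finrank (ZMod 3) W ≤ 2 := by
      have hc : ∀ (s : S) (u : V), ρ z (ρ (s : E) u) = ρ (s : E) (ρ z u) := fun s u => by
        rw [← Module.End.mul_apply, ← map_mul, ← hzS, map_mul, Module.End.mul_apply]
      rcases le_total (finrank (ZMod 3) Vp) 2 with h | h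
      · refine ⟨Vp, fun s u hu => ?_, hpb, h⟩
        simp only [Vp, LinearMap.mem_ker, LinearMap.sub_apply, Module.End.one_apply, sub_eq_zero] at hu ⊢
        rw [hc, hu]
      · refine ⟨Vm, fun s u hu => ?_, hmb, by omega⟩
        simp only [Vm, LinearMap.mem_ker, LinearMap.add_apply, Module.End.one_apply] at hu ⊢
        rw [hc, ← map_add, hu, map_zero]
    obtain ⟨u, huW, hu⟩ := Submodule.exists_mem_ne_zero_of_ne_bot hW0
    letI := vecAction ρ
    have hst := card_stab hinj htr hu
    rw [hcard, h4] at hst
    have horb : MulAction.orbit S u ⊆ (W : Set V) \ {0} := by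
      rintro _ ⟨s, rfl⟩
      exact ⟨hWS s u huW, fun h => hu (rho_injective ρ (s : E) (h.trans (map_zero _).symm))⟩
    have hle : Nat.card (MulAction.orbit S u) ≤ 8 := by
      rw [Nat.card_coe_set_eq]
      refine (Set.ncard_le_ncard horb).trans ?_
      rw [Set.ncard_sdiff_singleton_of_mem W.zero_mem, ← Nat.card_coe_set_eq]
      show Nat.card W - 1 ≤ 8
      rw [card_submodule]
      have := Nat.pow_le_pow_right (show 1 ≤ 3 by norm_num) hW2
      omega
    have hs : Nat.card (MulAction.stabilizer S u) ∣ Nat.card (MulAction.stabilizer E u) :=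
      Subgroup.card_dvd_of_injective
        (MonoidHom.codRestrict ((S : Subgroup E).subtype.comp (MulAction.stabilizer S u).subtype)
          (MulAction.stabilizer E u) fun s => s.2) fun a b h => Subtype.ext (Subtype.ext (congrArg Subtype.val h :))
    have hi := (MulAction.stabilizer S u).index_mul_card
    rw [MulAction.index_stabilizer, ← Nat.card_coe_set_eq] at hi
    obtain ⟨a, ha⟩ := IsPGroup.iff_card.mp S.2
    obtain ⟨t, ht⟩ := IsPGroup.iff_card.mp (S.2.to_subgroup (MulAction.stabilizer S u))
    obtain ⟨b, -, hb⟩ := (Nat.dvd_prime_pow Nat.prime_two).mp (ha ▸ Dvd.intro _ hi)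
    -- the two-parts
    have hEa : (Nat.card E).factorization 2 = a := by
      have h' := Sylow.card_eq_multiplicity S
      rw [ha] at h'
      exact (Nat.pow_right_injective le_rfl h').symm
    have hEu := congrArg (fun k : ℕ => k.factorization 2) hst
    rw [Nat.factorization_mul (by norm_num) Nat.card_pos.ne', Finsupp.add_apply, hEa] at hEu
    have h80 : (3 ^ 4 - 1 : ℕ).factorization 2 = 4 := by
      rw [show (3 ^ 4 - 1 : ℕ) = 2 ^ 4 * 5 by norm_num, Nat.factorization_mul (by norm_num) (by norm_num),
        Finsupp.add_apply, Nat.prime_two.factorization_pow, Finsupp.single_eq_same,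
        Nat.factorization_eq_zero_of_not_dvd (by norm_num)]
    rw [h80] at hEu
    rw [ht, Nat.prime_two.pow_dvd_iff_le_factorization Nat.card_pos.ne'] at hs
    rw [hb, ha, ht, ← pow_add] at hi
    have := Nat.pow_right_injective le_rfl hi
    rw [hb] at hle
    have : 2 ^ 4 ≤ 2 ^ b := Nat.pow_le_pow_right two_pos (by omega)
    omega
  · rw [h6] at hrn
    subst hrn
    exact hsq x hx1 hxc (hxC ▸ hr) (by rw [hxC])

end Cfsg.Agent.Lib.NormalThree79.Linear
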